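/-
The Schur multiplier of `²E₆(q)`, `q ≠ 2`.
-/
import Cfsg.Agent.Lib.Tw.Inst
import Cfsg.Agent.Lib.SL2.Mult2

set_option autoImplicit false

namespace Cfsg.Agent.Chev

open Cfsg.Lie RSys PreRGD

/-- Exponents giving a non-trivial character. -/
def goodE : List ℤ → Bool
  | [a, b] => (decide (a ≠ 0) || decide (b ≠ 0)) && decide (-2 ≤ a) && decide (a ≤ 2) && decide (-1 ≤ b) && decide (b ≤ 1)
  | _ => false

/-- Cocharacters separating the levels of `²E₆`. -/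
def sepE6 : List (List (List ℤ)) := [[],
  [[0, 0, 0, -1]],
  [[-1], [-1]],
  [[-1], [-1], [0, 0, -1]],
  [[0, 0, 0, -1], [-1, 0, 0, -1, -1], [-1], [-1]],
  [[0, -1], [0, -1], [-1], [-1], [0, -1]],
  [[-1], [-1], [0, 0, -1, -1], [0, 0, -1], [-1], [-1]],
  [[0, -1], [0, -1], [-1], [-1], [0, -1], [0, 0, -1, 0, -1], [-1]],
  [[0, -1], [0, -1], [-1], [-1], [0, -1], [0, 0, 0, -1], [-1], [0, 0, 0, -1]],
  [[0, -1], [0, -1], [-1], [-1], [0, -1], [0, 0, 0, -1], [-1], [0, 0, 0, -1], [-1, 0, -1]],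
  [[0, -1], [0, -1], [-1], [-1], [0, -1], [0, 0, 0, -1], [-1], [0, 0, 0, -1], [-1, 0, -1], [-1, 0, 0, 0, 0, -1]],
  [[0, -1], [0, -1], [-1], [-1], [0, -1], [0, 0, 0, -1], [-1], [0, 0, 0, -1], [-1, 0, -1], [0, 0, -1, 0, -1], [-1, 0, 0, 0, 0, -1]],
  [[0, -1], [0, -1], [-1], [-1], [0, -1], [-1, 0, -1], [-1], [-1, -1], [0, 0, 0, -1], [0, 0, 0, -1], [0, 0, 0, -1], [0, 0, 0, -1]],
  [[0, -1], [0, -1], [-1], [-1], [0, -1], [-1, 0, 0, 0, 0, -1], [-1], [-1, 0, 0, 0, 0, -1], [0, 0, 0, -1], [0, 0, 0, -1], [0, 0, 0, -1], [0, 0, 0, -1], [-1, 0, -1]],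
  [[0, 0, -1], [0, 0, -1], [-1], [-1], [0, 0, -1], [0, -1], [-1], [0, -1], [0, -1], [0, -1], [0, -1], [0, -1], [0, -1], [0, -1]],
  [[0, -1], [0, -1], [-1], [-1], [0, -1], [0, 0, -1], [-1], [0, 0, -1], [0, 0, -1], [0, 0, -1], [0, 0, -1], [0, 0, -1], [0, 0, -1], [0, 0, -1], [0, -1]],
  [[0, 0, 0, -1], [-1, 0, 0, 0, 0, -1], [-1], [-1], [-1, 0, 0, 0, 0, -1], [0, -1], [-1], [0, -1], [0, -1], [0, -1], [0, -1], [0, -1], [0, -1], [0, -1], [0, 0, -1], [0, -1]],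
  [[0, -1], [0, -1], [-1], [-1], [0, -1], [0, 0, -1], [-1], [0, 0, -1], [0, 0, -1], [0, 0, -1], [0, 0, -1], [0, 0, -1], [0, 0, -1], [0, 0, -1], [0, -1], [0, 0, 0, -1], [0, -1]],
  [[-1, 0, 0, 0, -1], [0, 0, 0, -1], [-1], [-1], [0, 0, 0, -1], [0, -1], [-1], [0, -1], [0, -1], [0, -1], [0, -1], [0, -1], [0, -1], [0, -1], [0, 0, -1], [0, -1], [0, 0, 0, -1], [0, -1]],
  [[0, 0, 0, -1], [-1, 0, -1], [-1], [-1], [-1, 0, 0, 0, -1], [0, -1], [-1], [0, -1], [0, -1], [0, -1], [0, -1], [0, -1], [0, -1], [0, -1], [0, 0, -1], [0, -1], [-1, 0, -1], [0, -1], [0, 0, 0, -1]],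
  [[0, 0, -1, 0, -1], [0, 0, 0, -1], [-1], [-1], [0, 0, 0, -1], [0, -1], [-1], [0, -1], [0, -1], [0, -1], [0, -1], [0, -1], [0, -1], [0, -1], [0, 0, -1], [0, -1], [0, 0, 0, -1], [0, -1], [-1, 0, 0, 0, -1], [0, 0, 0, -1]],
  [[-1], [-1], [0, -1], [0, 0, -1], [-1], [-1], [0, -1], [-1], [-1], [-1], [-1], [-1], [-1], [-1], [-1], [-1], [-1], [-1], [-1], [-1], [-1]],
  [[-1], [-1], [0, 0, -1], [0, -1, 0, -1], [-1], [-1], [0, 0, -1], [-1], [-1], [-1], [-1], [-1], [-1], [-1], [-1], [-1], [-1], [-1], [-1], [-1], [-1], [0, -1]],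
  [[-1], [-1], [0, 0, -1], [0, 0, 0, -1], [-1], [-1], [0, 0, -1], [-1], [-1], [-1], [-1], [-1], [-1], [-1], [-1], [-1], [-1], [-1], [-1], [-1], [-1], [0, -1], [0, 0, 0, -1]]]

/-- Cocharacters for the diagonal cases. -/
def diagE6 : List (List ℤ) := [[0, 0, -1], [-1], [0, -1], [0, 0, 0, -1], [0, 0, 0, 0, 0, 1], [0, 0, 0, 0, 0, -1], [0, -1], [0, 0, -1], [-1], [0, 0, 0, 0, 0, -1], [0, 0, 1], [0, 0, -1], [-1], [0, 0, 1], [-1], [-1], [0, 0, 0, 0, -1], [-1], [-1], [-1], [1], [0, 0, -1], [0, -1], [0, -1]]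

theorem checkSep_E6 : checkSep chevE6 twE6 levE6 2 goodE (allL · isZ) sepE6 (fun _ _ => false) = true := by
  decide +kernel

theorem checkDiag_E6 : checkDiag chevE6 twE6 levE6 2 goodE (· == [1, 0]) diagE6
    (byteAt 0x2e1918001400120012080006000000060002000001020000) (byteAt 0x464747004700470046470047000000460047000047460000) = true := by
  decide +kernel

variable {K : Type*} [Field K] [Finite K] {q : ℕ}

theorem goodE_spec (hq : 3 ≤ q) (hK : Nat.card K = q ^ 2) (v : List ℤ) (hv : goodE v = true) :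
    ∃ t : Kˣ, t ^ evQ q v ≠ 1 := by
  unfold goodE at hv
  split at hv
  · rename_i a b
    simp only [Bool.and_eq_true, Bool.or_eq_true, decide_eq_true_eq] at hv
    obtain ⟨⟨⟨⟨h0, h1⟩, h2⟩, h3⟩, h4⟩ := hv
    have h5 : (3 : ℤ) ≤ q := by exact_mod_cast hq
    refine exists_zpow_ne_one fun hd => ?_
    rw [hK, Nat.cast_pow] at hd
    have h6 := Int.eq_zero_of_abs_lt_dvd hd (abs_lt.mpr (by
      simp only [evQ]
      obtain rfl | rfl | rfl : b = -1 ∨ b = 0 ∨ b = 1 := by omega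
      all_goals constructor <;> nlinarith))
    simp only [evQ] at h6
    obtain rfl | rfl | rfl : b = -1 ∨ b = 0 ∨ b = 1 := by omega
    all_goals omega
  · exact absurd hv (by simp)

theorem big_of_natCard (h : 5 ≤ Nat.card K) : Big K :=
  have := Fintype.ofFinite K
  big_of_card (Nat.card_eq_fintype_card (α := K) ▸ h)

variable (K) in
/-- The projection of the universal group onto the adjoint group. -/
noncomputable def stProj (D : ChevalleyDatum) [Tab D] : D.SteinbergGroup K →* D.group K :=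
  (ChevM.stRel_xG D K).liftSt (r3_xG D K)

omit [Finite K] in
theorem stProj_stGen {D : ChevalleyDatum} [Tab D] (r : Fin D.nroots) (t : K) :
    stProj K D (D.stGen K r t) = ChevM.xG D K r t := StRel.liftSt_stGen _ _ r t

theorem tor_injective_E6 : Function.Injective (stRel_steinberg chevE6 K).tor := (injective_iff_map_eq_one _).mpr fun a ha => by
  have h1 := (stRel_steinberg chevE6 K).map_torus (stRel_steinberg chevE6 K).r3_of_finite (ChevM.stRel_xG chevE6 K)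
    (r3_xG chevE6 K) (stProj K chevE6) stProj_stGen a
  rw [ha, map_one, torus_xG, eq_comm, center_E6.hG_eq_one_iff] at h1
  obtain ⟨w, rfl⟩ := h1
  have h2 : (w : Kˣ) ^ (4 : ℤ) = 1 := embed_E6.last_eq_one (by decide) _ ha
  have h3 : (w : Kˣ) ^ (3 : ℤ) = 1 := zpow_eq_one_of_dvd w dvd_rfl
  rw [show (4 : ℤ) = 3 + 1 from rfl, zpow_add_one, h3, one_mul] at h2
  rw [show w = 1 from Subtype.ext h2, map_one]

variable {φ : K →+* K} (hφ : ∀ t, φ t = t ^ q) (hφk : ∀ t, φ^[2] t = t) (hq : 3 ≤ q) (hK : Nat.card K = q ^ 2)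

section

variable {G : Type*} [Group G] {x : ℕ → K → G} {σ : G →* G} (h : IsTw chevE6 twE6 x φ σ) {Γ : Type*} [Group Γ]
  {f : Γ →* G} (E : h.fold.Emb f) (hf : f.range ≤ h.fold.gen)

omit [Finite K] in
theorem IsTw.σT_E6 (a : Fin chevE6.rank → Kˣ) (i : Fin chevE6.rank) : (h.σT a i : K) = φ (a (h.tw.νp i)) := by
  have h1 : h.tw.νp (h.tw.νp i) = i := Fin.ext (by simp only [Twist.νp_val]; revert i; decide +kernel)
  have h2 := h.σT_apply a (h.tw.νp i)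
  rwa [h1, h.τ_eq per_E6] at h2

include hφ hφk hq hK E hf

theorem IsTw.perfect_E6 : commutator Γ = ⊤ :=
  h.perfect_of levOK_E6 E h.hrep_E6 hf fun _ => h.ext_of_diag per_E6 E levOK_E6 hφ hφk (goodE_spec hq hK) checkDiag_E6

theorem IsTw.ker_eq_bot_E6 [Finite Γ] (p : ℕ) [Fact p.Prime] [CharP K p] (hinj : Function.Injective h.chv.rel.tor)
    {P : Type*} [Group P] {τ : P →* Γ} (hτ : IsStemExtension τ) : τ.ker = ⊥ := by
  have hπ : CExt τ := ⟨hτ.1, hτ.2.1⟩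
  refine h.ker_eq_bot per_E6 E h.hrep_E6 hf p (h.pExt_of levOK_E6 E hπ h.hrep_E6 hf p hτ.2.2
    (h.split_gen per_E6 E hπ levOK_E6 hφ hφk (goodE_spec hq hK) checkDiag_E6 (big_of_natCard (by nlinarith))
      (fun v hv t ht => by simpa [beq_iff_eq.mp hv, evQ] using ht) checkSep_E6 p)) hτ.2.2 fun t _ ht => funext fun a => ?_
  have h1 := congrFun (hinj (ht.trans (map_one _).symm)) (repE6 a)
  rw [Finset.prod_apply, Finset.prod_eq_single a (fun b _ hb => h.dl_single_of_ne _ _ _ fun j hj => ?_) (by simp)] at h1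
  · exact (h.dl_single_self (h.orbOK per_E6 ((rs chevE6).simple (repE6 a))) (t a)).symm.trans h1
  have h2 : ∀ a b, b ≠ a → repE6 b ≠ repE6 a ∧ twE6.ν (repE6 b) ≠ repE6 a ∧
    kr twE6 2 (chevE6.simple (repE6 b)) ≤ 2 := by decide +kernel
  obtain ⟨h3, h4, h5⟩ := h2 a b hb
  obtain rfl | rfl : j = 0 ∨ j = 1 := by omega
  exacts [h3, fun e => h4 (congrArg Fin.val e)]

end

end Cfsg.Agent.Chev

namespace Cfsg.Agent.Chev

open Cfsg.Lie RSys PreRGD

theorem hasMult_twistedE6 {K : Type*} [Field K] [Fintype K] {q : ℕ} (hq : IsPrimePow q) (hK : Fintype.card K = q ^ 2)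
    (h2 : q ≠ 2) : HasCyclicSchurMultiplier (twistedE6 K q) (Nat.gcd 3 (q + 1)) := by
  obtain ⟨p, _, _, -, φ, hφ, hφk⟩ := exists_frob hq hK
  have hq3 : 3 ≤ q := by have := hq.two_le; omega
  have hK' := Nat.card_eq_fintype_card.trans hK
  let h := isTw_st twist_E6 (charOK_zero K) φ
  have E := (h.ok per_E6).emb_gen
  have hf := h.fold.gen.range_subtype.le
  have h1 : h.fold.gen.map (stProj K chevE6) = (wordIncl chevE6 (e6Words K q)).range := by
    rw [range_wordIncl, h.gen_E6 hφ hφk, MonoidHom.map_closure, Set.image_image]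
    refine congrArg _ (Set.image_congr ?_)
    rintro _ (⟨t, -, r, hr, rfl⟩ | ⟨t, rs, hr, rfl⟩)
    · simp [stProj_stGen (D := chevE6) ⟨r, by revert r; decide⟩]
    · simp [stProj_stGen (D := chevE6) ⟨rs.1, by revert rs; decide⟩, stProj_stGen (D := chevE6) ⟨rs.2, by revert rs; decide⟩]
  let π : h.fold.gen →* twistedE6 K q := ((chevE6.group K).subtype.comp ((stProj K chevE6).comp
    h.fold.gen.subtype)).codRestrict _ fun g => by
      obtain ⟨g', e⟩ := h1.le (Subgroup.mem_map_of_mem _ g.2)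
      exact (congrArg (· ∈ twistedE6 K q) (congrArg Subtype.val e)).mp g'.2
  have h3 : ∀ g, g ∈ π.ker ↔ (g : chevE6.SteinbergGroup K) ∈ (stProj K chevE6).ker := fun g => by
    rw [MonoidHom.mem_ker, MonoidHom.mem_ker, Subtype.ext_iff, Subtype.ext_iff (a1 := stProj K chevE6 g)]; rfl
  let c := centerHom chevE6 K (Nat.gcd 3 (q + 1)) fun i => ([2, 3, 4, 6, 5, 4] : List ℤ).getD i 0
  have h4 : ∀ w, h.chv.rel.tor (c w) ∈ h.fold.gen := fun w => by
    obtain ⟨g, e⟩ := h.tor_mem_range per_E6 E hφk (cot chevE6 [2, 0, 1] w)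
    refine (congrArg (· ∈ h.fold.gen) (e.trans (congrArg _ (funext fun i => Units.ext ?_)))).mp g.2
    have h5 := zpow_eq_one_of_dvd w (Int.natCast_dvd_natCast.mpr (Nat.gcd_dvd_right 3 (q + 1)))
    rw [Nat.cast_add_one, zpow_add_one, mul_eq_one_iff_eq_inv] at h5
    rw [dl_two, Pi.mul_apply, Units.val_mul, h.σT_E6, hφ, ← Units.val_pow_eq_pow_val, ← Units.val_mul, Units.val_inj,
      cot, cot, ← zpow_natCast, ← zpow_mul, mul_comm _ (q : ℤ), zpow_mul, h5, inv_zpow', ← zpow_add, Twist.νp_val]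
    refine mul_inv_eq_one.mp ((zpow_sub _ _ _).symm.trans ?_)
    exact zpow_eq_one_of_dvd w ((Int.natCast_dvd_natCast.mpr (Nat.gcd_dvd_left 3 (q + 1))).trans (by
      revert i; decide +kernel))
  let ψ := (h.chv.rel.tor.comp c).codRestrict _ h4
  have h5 := center_E6.ker_eq (stRel_steinberg chevE6 K) (GS_stGen chevE6 K) (stProj K chevE6) stProj_stGen
  have h6 : ψ.range = π.ker := by
    ext g
    rw [h3, h5]
    refine ⟨?_, fun ⟨w, e⟩ => ?_⟩
    · rintro ⟨w, rfl⟩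
      exact ⟨⟨w, by simpa using zpow_eq_one_of_dvd w (Int.natCast_dvd_natCast.mpr (Nat.gcd_dvd_left 3 (q + 1)))⟩, rfl⟩
    · have h7 := E.fix g
      rw [Subgroup.subtype_apply, ← e, MonoidHom.comp_apply, IsTw.fold_σ, h.σ_tor] at h7
      have h8 := congrArg Units.val (congrFun (tor_injective_E6 h7) ⟨5, by decide⟩)
      rw [h.σT_E6, hφ, ← Units.val_pow_eq_pow_val, Units.val_inj] at h8
      have h9 : ((w : Kˣ) ^ 2) ^ q = w ^ 4 := h8
      have h10 : (w : Kˣ) ^ 3 = 1 := w.2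
      refine ⟨⟨w, pow_gcd_eq_one.mpr ⟨h10, ?_⟩⟩, Subtype.ext e⟩
      have h11 : (w : Kˣ) ^ (q + 1) = (((w : Kˣ) ^ 2) ^ q) ^ 2 * w ^ 4 * (((w : Kˣ) ^ 3) ^ (q + 1))⁻¹ := by group
      rw [h11, h9, show ((w : Kˣ) ^ 4) ^ 2 * w ^ 4 = ((w : Kˣ) ^ 3) ^ 4 by group, h10]
      simp
  have h7 : Function.Injective ψ := (injective_iff_map_eq_one _).mpr fun w hw => by
    have h8 := congrFun (tor_injective_E6 (a₁ := c w) (a₂ := 1) ((congrArg Subtype.val hw).trans (map_one _).symm))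
    have h9 : (w : Kˣ) ^ (4 : ℤ) = 1 := h8 ⟨5, by decide⟩
    have h10 : (w : Kˣ) ^ (3 : ℤ) = 1 := h8 ⟨1, by decide⟩
    rw [show (4 : ℤ) = 3 + 1 from rfl, zpow_add_one, h10, one_mul] at h9
    exact Subtype.ext h9
  have h8 : Nat.gcd (Nat.gcd 3 (q + 1)) (Fintype.card K - 1) = Nat.gcd 3 (q + 1) :=
    Nat.gcd_eq_left ((Nat.gcd_dvd_right _ _).trans (hK ▸ Nat.sq_sub_sq q 1 ▸ Dvd.intro _ rfl))
  refine SL2.hasSchurMultiplier_of_perfect (h.perfect_E6 hφ hφk hq3 hK' E hf)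
    (fun _ _ _ _ => h.ker_eq_bot_E6 hφ hφk hq3 hK' E hf p tor_injective_E6) π (fun g => ?_) (fun g hg => ?_)
    (h8 ▸ ((kerPowEquiv K _).trans ((MonoidHom.ofInjective h7).trans (MulEquiv.subgroupCongr h6))).symm)
  · obtain ⟨g', hg', e⟩ := h1.ge ⟨g, rfl⟩
    exact ⟨⟨g', hg'⟩, Subtype.ext (congrArg Subtype.val e :)⟩
  · exact Subgroup.mem_center_iff.mpr fun g' => Subtype.ext (Subgroup.mem_center_iff.mp ((chv_xG chevE6 K).ker_le_center _
      stProj_stGen (stRel_steinberg chevE6 K) (GS_stGen chevE6 K) ((h3 g).mp hg)) g')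

end Cfsg.Agent.Chev
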