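import Mathlib
import Cfsg.Agent.Lib.Chev.DCoset
import Cfsg.Agent.Lib.Tw.Fold

/-! Involutions of the fixed point group of a folding are conjugate into `N`. -/

set_option autoImplicit false
set_option linter.unusedSectionVars false

namespace Cfsg.Agent.Chev
open RSys PreRGD
variable {ι I : Type*} [Fintype I] [DecidableEq I] {R : RSys ι I} {G : Type*} [Group G] [Fintype ι] [DecidableEq ι]

theorem RSys.Aut.inSub_of_simple {w : Equiv.Perm ι} (hw : w ∈ R.Aut) {J K : Set I}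
    (h : ∀ j ∈ J, R.InSub K (w (R.simple j))) {r : ι} (hr : R.InSub J r) : R.InSub K (w r) := fun k hk => by
  rw [Aut.rc_apply hw, lin_apply, Finset.sum_apply]
  refine Finset.sum_eq_zero fun j _ => ?_
  by_cases hj : j ∈ J
  · simp [h j hj k hk]
  · simp [hr j hj]

/-- An involution preserving the subsystem of the fundamental roots that it keeps positive makes all other positive
roots negative. -/
theorem RSys.Aut.not_isPos_of_perm {w : Equiv.Perm ι} (hw : w ∈ R.Aut) (h2 : w * w = 1) {K K' : Set I}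
    (hK : ∀ i ∈ K', R.InSub K' (w (R.simple i))) (hK' : ∀ i ∈ K, i ∉ K' → ¬ R.IsPos (w (R.simple i))) {r : ι}
    (hr : R.IsPos r) (h1 : R.InSub K r) (h3 : ¬ R.InSub K' r) : ¬ R.IsPos (w r) := by
  simp only [InSub, not_forall] at h3
  obtain ⟨i, hi, h3⟩ := h3
  have hiK : i ∈ K := by_contra fun h => h3 (h1 i h)
  have h4 : ¬ R.InSub K' (w (R.simple i)) := fun h => by
    have := Aut.inSub_of_simple hw hK h
    rw [← Equiv.Perm.mul_apply, h2, Equiv.Perm.one_apply, inSub_simple] at this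
    exact hi this
  simp only [InSub, not_forall] at h4
  obtain ⟨j, hj, h4⟩ := h4
  intro h
  have h5 := h j
  rw [Aut.rc_apply hw, lin_apply, Finset.sum_apply] at h5
  refine absurd h5 (not_le.mpr (Finset.sum_neg' (fun k _ => ?_) ⟨i, Finset.mem_univ _, ?_⟩))
  · by_cases hk : k ∈ K'
    · simp [hK k hk j hj]
    · by_cases hk' : k ∈ K
      · exact mul_nonpos_of_nonneg_of_nonpos (hr k) (rc_nonpos_of_not_isPos (hK' k hk' hk) j)
      · simp [h1 k hk']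
  · exact mul_neg_of_pos_of_neg (lt_of_le_of_ne (hr i) (Ne.symm h3))
      (lt_of_le_of_ne (rc_nonpos_of_not_isPos (hK' i hiK hi) j) h4)

theorem RSys.eq_w0_mul_of {w : Equiv.Perm ι} (hw : w ∈ R.W) {J : Set I}
    (h : ∀ r, R.IsPos r → (R.IsPos (w r) ↔ R.InSub J r)) : w = R.w0 * R.w0J J := by
  rw [← eq_w0J (w := R.w0 * w) (mem_WJ_of_invs (mul_mem w0_mem hw) fun r hr => ?_)
    fun j hj => by
      rw [Equiv.Perm.mul_apply, isPos_w0_iff, not_not, h _ (R.isPos_simple j)]; exact inSub_simple.mpr hj,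
    ← mul_assoc, w0_mul_self, one_mul]
  rw [mem_invs, Equiv.Perm.mul_apply, isPos_w0_iff, not_not] at hr
  exact (h r hr.1).mp hr.2

theorem conj_of_odd {a b : G} (ha : a * a = 1) (hb : b * b = 1) {n : ℕ} (hn : Odd n) (h : (a * b) ^ n = 1) :
    ∃ j : ℕ, (a * b) ^ j * b * ((a * b) ^ j)⁻¹ = a := by
  obtain ⟨k, rfl⟩ := hn
  have h1 : b * (a * b)⁻¹ = a * b * b := by
    rw [mul_inv_rev, inv_eq_of_mul_eq_one_right ha, inv_eq_of_mul_eq_one_right hb, ← mul_assoc, hb, mul_assoc, hb]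
    simp
  have h2 : ∀ j : ℕ, b * ((a * b) ^ j)⁻¹ = (a * b) ^ j * b := fun j =>
    inv_pow (a * b) j ▸ (SemiconjBy.pow_right h1 j).eq
  refine ⟨k + 1, ?_⟩
  rw [mul_assoc, h2, ← mul_assoc, ← pow_add, show k + 1 + (k + 1) = 2 * k + 1 + 1 by ring, pow_succ, h, one_mul,
    mul_assoc, hb, mul_one]

namespace PreRGD
variable {P : PreRGD R G} {m : G} {w d : Equiv.Perm ι}

variable (P) in
/-- `y` is an involution (or `1`) of `A` conjugate in `A` to an element over `w`. -/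
def InvW (A : Subgroup G) (w : Equiv.Perm ι) (y : G) : Prop :=
  y ∈ A ∧ y * y = 1 ∧ ∃ g ∈ A, P.Over (g * y * g⁻¹) w

theorem InvW.conj {A : Subgroup G} {y g : G} (h : P.InvW A w y) (hg : g ∈ A) : P.InvW A w (g * y * g⁻¹) := by
  obtain ⟨h1, h2, k, hk, h3⟩ := h
  exact ⟨mul_mem (mul_mem hg h1) (inv_mem hg), by rw [conj_mul, h2]; simp, k * g⁻¹, mul_mem hk (inv_mem hg),
    by simpa [mul_assoc] using h3⟩

theorem InvW.exists_conj (hH : ∀ k ∈ P.H, ∃ n, Odd n ∧ k ^ n = 1) {A : Subgroup G} {a b : G} (h : P.InvW A w a)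
    (h' : P.InvW A w b) : ∃ g ∈ A, g * a * g⁻¹ = b := by
  obtain ⟨h1, h2, k, hk, h3⟩ := h
  obtain ⟨h1', h2', k', hk', h3'⟩ := h'
  have e1 : k * a * k⁻¹ * (k * a * k⁻¹) = 1 := by rw [conj_mul, h2]; simp
  have e2 : k' * b * k'⁻¹ * (k' * b * k'⁻¹) = 1 := by rw [conj_mul, h2']; simp
  obtain ⟨n, hn, e⟩ := hH _ (h3'.mul_inv_mem h3)
  rw [inv_eq_of_mul_eq_one_right e1] at e
  obtain ⟨j, hj⟩ := conj_of_odd e2 e1 hn e
  refine ⟨k'⁻¹ * (k' * b * k'⁻¹ * (k * a * k⁻¹)) ^ j * k, mul_mem (mul_mem (inv_mem hk') (pow_mem (mul_mem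
    (mul_mem (mul_mem hk' h1') (inv_mem hk')) (mul_mem (mul_mem hk h1) (inv_mem hk))) j)) hk, ?_⟩
  generalize (k' * b * k'⁻¹ * (k * a * k⁻¹)) ^ j = c at hj
  calc _ = k'⁻¹ * (c * (k * a * k⁻¹) * c⁻¹) * k' := by group
    _ = b := by rw [hj]; group

theorem InvW.trans (hH : ∀ k ∈ P.H, ∃ n, Odd n ∧ k ^ n = 1) {A : Subgroup G} {a b : G} (h1 : P.InvW A w a)
    (h2 : P.InvW A d a) (h3 : P.InvW A d b) : P.InvW A w b := by
  obtain ⟨g, hg, rfl⟩ := h2.exists_conj hH h3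
  exact h1.conj hg

theorem invW_one (A : Subgroup G) : P.InvW A 1 1 :=
  ⟨one_mem _, by simp, 1, one_mem _, by simp [over_one_iff, one_mem]⟩

theorem Over.conj_LJ (h : P.Over m w) {J K : Set I} (hw : ∀ r, R.InSub J r → R.InSub K (w r)) {g : G}
    (hg : g ∈ P.LJ J) : m * g * m⁻¹ ∈ P.LJ K := by
  obtain ⟨k, hk, u, hu, rfl⟩ := P.mem_LJ_iff'.mp hg
  have := mul_mem (P.H_le_LJ K (h.conj_H hk)) (P.GJ_le_LJ K (h.conj_US hw hu))
  simpa [mul_assoc] using this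

theorem Over.cell_mul (h : P.Over m d) (hw : w ∈ R.W) (hd : ∀ r, R.IsPos r → ¬ R.IsPos (w r) → R.IsPos (d⁻¹ r))
    {g : G} (hg : g ∈ P.cell w) : g * m ∈ P.cell (w * d) := by
  obtain ⟨k, hk, rfl⟩ := h.exists_eq
  rw [← mul_assoc]
  exact cell_mul_mem (cell_mul_nW hw h.1 hd hg) (P.H_le_B hk)

theorem Over.mul_cell (h : P.Over m d) (hw : w ∈ R.W) (hd : ∀ r, R.IsPos r → ¬ R.IsPos (w⁻¹ r) → R.IsPos (d r))
    {g : G} (hg : g ∈ P.cell w) : m * g ∈ P.cell (d * w) := by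
  obtain ⟨k, hk, rfl⟩ := h.exists_eq
  rw [mul_assoc]
  exact nW_mul_cell hw h.1 hd (mul_mem_cell (P.H_le_B hk) hg)

theorem Over.mem_LJ (hP : P.Nondeg) (h : P.Over m w) {J : Set I} (hw : w ∈ R.WJ J) : m ∈ P.LJ J :=
  hP.NJ_le_LJ J (h.mem_NJ hw)

theorem Over.bruhat_mem_cell (h : P.Over m w) {u v : G} (hu : u ∈ P.U) (hv : v ∈ P.U) : u * m * v ∈ P.cell w :=
  cell_mul_mem (mul_mem_cell (P.U_le_B hu) h.mem_cell) (P.U_le_B hv)

theorem Nondeg.mul_self_eq_one (hP : P.Nondeg) (hw : w ∈ R.W) {g : G} (hg : g ∈ P.cell w) (h : g * g = 1) :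
    w * w = 1 :=
  mul_eq_one_iff_eq_inv.mpr (hP.cell_unique hw (inv_mem hw) hg (inv_eq_of_mul_eq_one_right h ▸ inv_mem_cell hw hg))

end PreRGD

namespace Fold
variable {P : PreRGD R G} {F : Fold P}

/-- A longest conjugate permutes the fundamental roots which it keeps positive. -/
theorem exists_simple_of_max {w : Equiv.Perm ι} (hw : w ∈ F.WF) (h2 : w * w = 1) {i : I}
    (h : R.IsPos (w (R.simple i)))
    (hmax : R.IsPos (F.s i (w (R.simple i))) → R.length (F.s i * w * F.s i) ≤ R.length w) :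
    ∃ k ∈ F.orb i, w (R.simple i) = R.simple k := by
  refine exists_simple_of_exch hw h fun h' => ?_
  have h1 := hmax h'
  have hinv : w⁻¹ = w := inv_eq_of_mul_eq_one_right h2
  rw [length_mul_s (mul_mem (s_mem i) hw) h', ← length_inv (mem_Aut (mul_mem (s_mem i) hw)), mul_inv_rev, hinv, s_inv,
    length_mul_s hw h] at h1
  have := F.length_s_pos i
  omega

theorem eq_w0_mul {w : Equiv.Perm ι} (hw : w ∈ F.WF) (h2 : w * w = 1)
    (hmax : ∀ i, R.length (F.s i * w * F.s i) ≤ R.length w) :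
    ∃ J, F.StI J ∧ w = R.w0 * R.w0J J := by
  have hA := mem_Aut hw
  set J := {i | R.IsPos (w (R.simple i))}
  have hJ : F.StI J := fun i => pos_orb hw ((stI_orb i i).mpr (mem_orb_self i))
  have h1 : ∀ i ∈ J, R.InSub J (w (R.simple i)) := fun i hi => by
    obtain ⟨k, hk, e⟩ := exists_simple_of_max hw h2 hi fun _ => hmax i
    rw [e, inSub_simple]
    exact hJ.orb_subset hi hk
  exact ⟨J, hJ, eq_w0_mul_of (WF_le_W hw) fun r hr => ⟨fun h => by_contra fun h' =>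
    Aut.not_isPos_of_perm hA h2 (K := Set.univ) h1 (fun i _ h => h) hr (inSub_univ r) h' h,
    Aut.isPos_of_inSub hA (fun _ h => h) hr⟩⟩

theorem exists_conj_w0_mul {w : Equiv.Perm ι} (hw : w ∈ F.WF) (h2 : w * w = 1) :
    ∃ v ∈ F.WF, ∃ J, F.StI J ∧ v * w * v⁻¹ = R.w0 * R.w0J J := by
  obtain ⟨v, hv, hmax⟩ := Set.exists_max_image (F.WF : Set (Equiv.Perm ι)) (fun v => R.length (v * w * v⁻¹))
    (Set.toFinite _) ⟨1, one_mem _⟩
  refine ⟨v, hv, eq_w0_mul (mul_mem (mul_mem hv hw) (inv_mem hv)) (by rw [conj_mul, h2, mul_one, mul_inv_cancel])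
    fun i => ?_⟩
  simpa [mul_assoc] using hmax _ (mul_mem (s_mem i) hv)

namespace Emb
variable {Γ : Type*} [Group Γ] {f : Γ →* G} (E : F.Emb f)
include E

theorem exists_conj_N_aux (n : ℕ) : ∀ K : Set I, K.ncard = n → F.StI K → ∀ (m z : Γ) (w : Equiv.Perm ι),
    P.Over (f m) w → (∀ r, R.InSub K (w r) ↔ R.InSub K r) → (∀ i ∈ K, R.IsPos (w⁻¹ (R.simple i))) → z * z = 1 →
    f (z * m⁻¹) ∈ P.LJ K → ∃ g, f (g * z * g⁻¹) ∈ P.N := by
  induction n using Nat.strong_induction_on with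
  | _ n ih =>
  intro K hn hK m z w hm hwK hwp h2 hz
  have hP := E.nd
  have hA := R.W_le_Aut hm.1
  have hwK' : ∀ r, R.InSub K r → R.InSub K (w⁻¹ r) := fun r hr => (hwK _).mp (by simpa)
  -- decomposition of the conjugates
  have key : ∀ g, f g ∈ P.LJ K → ∃ w₂ ∈ R.WJ K, f (g * z * g⁻¹ * m⁻¹) ∈ P.cell w₂ ∧ ∃ m' u v, P.Over (f m') (w₂ * w) ∧
      f u ∈ P.UL K ∧ f v ∈ P.UL K ∧ g * z * g⁻¹ = u * m' * v := fun g hg => by
    have h1 : f (g * z * g⁻¹ * m⁻¹) ∈ P.LJ K := by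
      have := mul_mem (mul_mem hg hz) (hm.conj_LJ (fun r => (hwK r).mpr) (inv_mem hg))
      simpa [mul_assoc] using this
    obtain ⟨w₂, hw₂, u, hu, h, hh, v, hv, e⟩ := hP.mem_LJ_iff.mp h1
    have hW := R.WJ_le_W K hw₂
    obtain ⟨w₁, -, m', u', v', a1, a2, a3, e'⟩ := E.bruhat (g * z * g⁻¹)
    have b1 : ∀ r, R.IsPos r ∧ ¬ R.IsPos (w₂ r) → R.IsPos (w⁻¹ r) ∧ R.InSub K (w⁻¹ r) := fun r hr =>
      have := inSub_of_mem_invs hw₂ (mem_invs.mpr hr)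
      ⟨Aut.isPos_of_inSub (inv_mem hA) hwp hr.1 this, hwK' r this⟩
    obtain ⟨rfl, e1, -, e2⟩ := hP.bruhat_over_unique a1 (((over_nW hW).H_mul hh).mul hm) a2 (P.UL_le_U K hu) a3
      (hm.inv.conj_US (T := {r | R.IsPos r ∧ ¬ R.IsPos ((w₂ * w) r)}) (fun r hr => ⟨(b1 r hr).1, by simpa using hr.2⟩) hv)
      (by
        rw [← map_mul, ← map_mul, ← e']
        calc _ = f (g * z * g⁻¹ * m⁻¹) * f m := by simp
          _ = _ := by rw [e]; group)
    exact ⟨w₂, hw₂, (P.mem_cell_iff hW).mpr ⟨u, P.UL_le_U K hu, h, hh, v, hv, e⟩, m', u', v', a1, e1 ▸ hu,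
      e2 ▸ hm.inv.conj_US b1 hv, e'⟩
  obtain ⟨w₂, ⟨hw₂, g, hg, hgw⟩, hmax⟩ := Set.exists_max_image
    {w₂ | w₂ ∈ R.WJ K ∧ ∃ g, f g ∈ P.LJ K ∧ f (g * z * g⁻¹ * m⁻¹) ∈ P.cell w₂} R.length (Set.toFinite _)
    (by obtain ⟨w₂, h1, h, -⟩ := key 1 (by simp [one_mem]); exact ⟨w₂, h1, 1, by simp [one_mem], h⟩)
  have len : ∀ v ∈ R.WJ K, R.length (v * w) = R.length v + R.length w := fun v hv => by
    rw [← length_inv (mul_mem (R.WJ_le_Aut K hv) hA), mul_inv_rev,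
      length_mul_of_min_coset_rep (inv_mem hA) hwp (inv_mem hv), length_inv hA, length_inv (R.WJ_le_Aut K hv), add_comm]
  have hmax' : ∀ g, f g ∈ P.LJ K → ∀ w' ∈ R.W, f (g * z * g⁻¹) ∈ P.cell w' → R.length w' ≤ R.length (w₂ * w) :=
    fun g hg w' hw' h => by
      obtain ⟨w₃, hw₃, a1, m', u, v, a2, a3, a4, e⟩ := key g hg
      rw [hP.cell_unique hw' a2.1 h (by
        rw [e, map_mul, map_mul]; exact a2.bruhat_mem_cell (P.UL_le_U K a3) (P.UL_le_U K a4)), len _ hw₃, len _ hw₂]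
      exact Nat.add_le_add_right (hmax _ ⟨hw₃, g, hg, a1⟩) _
  obtain ⟨w₃, hw₃, a1, m', u, v, hm', hu, hv, e⟩ := key g hg
  obtain rfl : w₂ = w₃ := hP.cell_unique (R.WJ_le_W K hw₂) (R.WJ_le_W K hw₃) hgw a1
  obtain ⟨w₁, hw₁⟩ : ∃ w₁, w₁ = w₂ * w := ⟨_, rfl⟩
  rw [← hw₁] at hm' hmax'
  have hF := E.mem_WF hm'
  have hA₁ := mem_Aut hF
  have hc : f (g * z * g⁻¹) ∈ P.cell w₁ := by
    rw [e, map_mul, map_mul]; exact hm'.bruhat_mem_cell (P.UL_le_U K hu) (P.UL_le_U K hv)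
  have hw2 : w₁ * w₁ = 1 := hP.mul_self_eq_one hm'.1 hc (by rw [← map_mul, conj_mul, h2]; simp)
  have hinv : w₁⁻¹ = w₁ := inv_eq_of_mul_eq_one_right hw2
  set K' := {i | i ∈ K ∧ R.IsPos (w₁ (R.simple i))} with hK'
  have hKK : K' ⊆ K := fun i hi => hi.1
  have sK' : F.StI K' := fun i => and_congr (hK i) (pos_orb hF ((stI_orb i i).mpr (mem_orb_self i)))
  have hfix : ∀ i ∈ K', ∃ k ∈ K', w₁ (R.simple i) = R.simple k := fun i hi => by
    obtain ⟨k, hk, e⟩ := exists_simple_of_max hF hw2 hi.2 fun h => by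
      have b1 : ∀ w' ∈ F.WF, R.IsPos (w' (R.simple i)) → ∀ r, R.IsPos r → ¬ R.IsPos (w' r) → R.IsPos (F.s i r) :=
        fun w' h0 h1 r h2 h3 => (isPos_apply_iff_of_not_inSub (s_mem_WJ i) fun h4 =>
          h3 (isPos_of_orb h0 h1 h2 h4)).mpr h2
      have c1 := (E.over_n i).inv.cell_mul (WF_le_W (mul_mem (s_mem i) hF))
        (by simpa using b1 _ (mul_mem (s_mem i) hF) h)
        ((E.over_n i).mul_cell hm'.1 (by rw [hinv]; exact b1 _ hF hi.2) hc)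
      rw [s_inv] at c1
      exact hmax' (E.n i * g) (by
        rw [map_mul]
        exact mul_mem ((E.over_n i).mem_LJ hP (R.WJ_mono (hK.orb_subset hi.1) (s_mem_WJ i))) hg) _
        (WF_le_W (mul_mem (mul_mem (s_mem i) hF) (s_mem i))) (by simpa [mul_assoc] using c1)
    exact ⟨k, sK'.orb_subset hi hk, e⟩
  have hin : ∀ i ∈ K', R.InSub K' (w₁ (R.simple i)) := fun i hi => by
    obtain ⟨k, hk, e⟩ := hfix i hi
    rwa [e, inSub_simple]
  have hin' : ∀ r, R.InSub K' r → R.InSub K' (w₁ r) := fun r => Aut.inSub_of_simple hA₁ hin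
  have hpos : ∀ r, R.IsPos r ∧ R.InSub K' r → R.IsPos (w₁ r) ∧ R.InSub K' (w₁ r) := fun r hr =>
    ⟨Aut.isPos_of_inSub hA₁ (fun i hi => hi.2) hr.1 hr.2, hin' r hr.2⟩
  obtain ⟨v₁, v₂, hv₁, hv₂, e'⟩ := E.split_U (S := {r | R.IsPos r ∧ R.InSub K r}) (A := {r | R.IsPos r ∧ R.InSub K' r})
    (B := {r | R.IsPos r ∧ ¬ R.IsPos (w₁ r)} ∩ {r | R.InSub K r}) (fun r hr => hr.1)
    (closed_pos.inter (closed_inSub K)) (closed_pos.inter (closed_inSub K'))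
    ((closed_pos_and_not hA₁).inter (closed_inSub K))
    (Set.ext fun r => ⟨fun h => h.elim (fun h => ⟨h.1, fun i hi => h.2 i fun h => hi h.1⟩) fun h => ⟨h.1.1, h.2⟩,
      fun h => (em (R.InSub K' r)).imp (fun h' => ⟨h.1, h'⟩) fun h' =>
        ⟨⟨h.1, Aut.not_isPos_of_perm hA₁ hw2 hin (fun i hi h h' => h ⟨hi, h'⟩) h.1 h.2 h'⟩, h.2⟩⟩)
    (Set.disjoint_left.mpr fun r h h' => h'.1.2 (hpos r h).1) (st_pos.inter sK'.st)
    ((st_pos.inter (st_neg.preimage hF)).inter hK.st) (u := v * u) (by rw [map_mul]; exact mul_mem hv hu)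
  have e1 : u⁻¹ * g * z * (u⁻¹ * g)⁻¹ = m' * v₁ * v₂ := by
    rw [mul_assoc m', ← e']
    calc _ = u⁻¹ * (g * z * g⁻¹) * u := by group
      _ = _ := by rw [e]; group
  have e2 : m' * v₁ * v₂ * (m' * v₁ * v₂) = 1 := by rw [← e1, conj_mul, h2, mul_one, mul_inv_cancel]
  have hv₂' : f v₂ ∈ P.Uw w₁ := USub_mono Set.inter_subset_left hv₂
  have hmv : f m' * f v₁ * (f m')⁻¹ ∈ P.UL K' := hm'.conj_US hpos hv₁
  obtain ⟨-, -, -, e3⟩ := hP.bruhat_over_unique hm' (hinv ▸ hm'.inv) (P.UL_le_U K' hmv)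
    (mul_mem (inv_mem (P.Uw_le_U _ hv₂')) (inv_mem (P.UL_le_U K' hv₁))) hv₂' (one_mem _) (by
      have := congrArg f (mul_eq_one_iff_eq_inv.mp e2)
      simp only [map_mul, map_inv] at this
      rw [inv_mul_cancel_right, this]; group)
  obtain rfl : v₂ = 1 := E.inj (e3.trans (map_one f).symm)
  rw [mul_one] at e1 e2
  have hug : f (u⁻¹ * g) ∈ P.LJ K := by rw [map_mul, map_inv]; exact mul_mem (inv_mem (P.UL_le_LJ K hu)) hg
  by_cases hKe : K' = K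
  · refine ⟨u⁻¹ * g, ?_⟩
    obtain rfl : w₂ = 1 := by
      refine eq_one_of_forall_pos_WJ hw₂ fun i hi => ?_
      have := (hpos (w⁻¹ (R.simple i)) ⟨hwp i hi, hKe ▸ hwK' _ (inSub_simple.mpr hi)⟩).1
      simpa [hw₁] using this
    rw [one_mul] at hw₁
    subst hw₁
    obtain ⟨n₀, hn₀⟩ := E.exists_over hK.w0J_mem
    obtain ⟨w₃, hw₃, b1, -⟩ := key (n₀ * (u⁻¹ * g)) (by rw [map_mul]; exact mul_mem (hn₀.mem_LJ hP (w0J_mem K)) hug)
    have := hmax w₃ ⟨hw₃, _, by rw [map_mul]; exact mul_mem (hn₀.mem_LJ hP (w0J_mem K)) hug, b1⟩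
    rw [length_one, Nat.le_zero, length_eq_zero_iff (R.WJ_le_W K hw₃)] at this
    rw [this, mem_cell_one_iff] at b1
    have c1 : w₁ * R.w0J K * w₁⁻¹ = R.w0J K := eq_w0J (WJ_conj hA (fun j hj => (hwK _).mpr (inSub_simple.mpr hj))
      (w0J_mem K)) fun j hj h => by
        have d1 := hwK' _ (inSub_simple.mpr hj)
        have d2 := hpos (R.neg (R.w0J K (w₁⁻¹ (R.simple j)))) ⟨isPos_neg_iff.mpr (not_isPos_w0J (hwp j hj) d1),
          by rw [hKe]; exact inSub_neg.mpr ((inSub_apply_iff (w0J_mem K)).mpr d1)⟩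
        rw [Aut.neg_apply hA, isPos_neg_iff] at d2
        exact d2.1 h
    have c2 := (((hn₀.mul hm').mul hn₀.inv).mul hm.inv)
    rw [show R.w0J K * w₁ * (R.w0J K)⁻¹ * w₁⁻¹ = 1 by
      calc _ = R.w0J K * (w₁ * R.w0J K * w₁⁻¹)⁻¹ := by group
        _ = 1 := by rw [c1, mul_inv_cancel], over_one_iff] at c2
    have c3 := hP.eq_one_of_mem_V_B (P.VL_le_V K (hn₀.w0J_conj_UL (hKe ▸ hmv))) (by
      have := mul_mem b1 (inv_mem (P.H_le_B c2))
      rw [show n₀ * (u⁻¹ * g) * z * (n₀ * (u⁻¹ * g))⁻¹ = n₀ * (m' * v₁) * n₀⁻¹ by rw [← e1]; group] at this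
      simpa [mul_assoc] using this)
    rw [conj_eq_one_iff, conj_eq_one_iff] at c3
    rw [e1, map_mul, c3, mul_one]
    exact hm'.mem_N
  obtain ⟨g', hg'⟩ := ih _ (hn ▸ Set.ncard_lt_ncard (hKK.ssubset_of_ne hKe)) K' rfl sK' m' (m' * v₁) w₁ hm'
    (fun r => ⟨fun h => by simpa [← Equiv.Perm.mul_apply, hw2] using hin' _ h, hin' r⟩)
    (fun i hi => by rw [hinv]; exact hi.2) e2 (by simpa using P.UL_le_LJ K' hmv)
  exact ⟨g' * (u⁻¹ * g), by rw [← e1] at hg'; simpa [mul_assoc] using hg'⟩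

theorem exists_conj_N {z : Γ} (h2 : z * z = 1) : ∃ g, f (g * z * g⁻¹) ∈ P.N :=
  E.exists_conj_N_aux _ Set.univ rfl stI_univ 1 z 1 (by simp [over_one_iff, one_mem]) (by simp)
    (fun i _ => R.isPos_simple i) h2 (by rw [E.nd.LJ_univ]; exact E.full _)

theorem invW_conj {w v : Equiv.Perm ι} (hv : v ∈ F.WF) {y : G} (h : P.InvW f.range w y) :
    P.InvW f.range (v * w * v⁻¹) y := by
  obtain ⟨h1, h2, g, hg, h3⟩ := h
  obtain ⟨m, hm⟩ := E.exists_over hv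
  exact ⟨h1, h2, f m * g, mul_mem ⟨m, rfl⟩ hg, by simpa [mul_assoc] using (hm.mul h3).mul hm.inv⟩

theorem exists_invW {z : Γ} (h2 : z * z = 1) : ∃ J, F.StI J ∧ P.InvW f.range (R.w0 * R.w0J J) (f z) := by
  obtain ⟨g, hg⟩ := E.exists_conj_N h2
  obtain ⟨w, hw, h⟩ := E.exists_over_of_mem_N hg
  obtain ⟨v, hv, J, hJ, e⟩ := exists_conj_w0_mul hw (E.nd.mul_self_eq_one h.1 h.mem_cell (by
    rw [← map_mul, conj_mul, h2]; simp))
  exact ⟨J, hJ, e ▸ E.invW_conj hv ⟨⟨z, rfl⟩, by rw [← map_mul, h2, map_one], f g, ⟨g, rfl⟩, by simpa using h⟩⟩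

theorem invW_rank1 {v : Equiv.Perm ι} (hv : v ∈ F.WF) {i : I} {y : G} (hy : y ∈ f.range) (h1 : y ≠ 1) (h2 : y * y = 1)
    (h : y ∈ P.US {r | ¬ R.IsPos (v r) ∧ R.InSub (F.orb i) (v r)}) : P.InvW f.range (v⁻¹ * F.s i * v) y := by
  obtain ⟨m, hm⟩ := E.exists_over hv
  obtain ⟨y, rfl⟩ := hy
  have h3 : f (m * y * m⁻¹) ∈ P.VL (F.orb i) := by
    rw [map_mul, map_mul, map_inv]; exact hm.conj_US (T := {r | ¬ R.IsPos r ∧ R.InSub (F.orb i) r}) (fun r hr => hr) h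
  obtain ⟨x, x', hx, hx', h4⟩ := E.rank1 h3 fun e => h1 (by rw [conj_eq_one_iff.mp e, map_one])
  have h5 : m * y * m⁻¹ * (m * y * m⁻¹) = 1 := by rw [conj_mul, E.inj (a₁ := y * y) (a₂ := 1) (by simpa using h2)]; simp
  generalize hz : m * y * m⁻¹ = z at h3 h4 h5
  have b : ∀ {u}, u ∈ P.UL (F.orb i) → u ∈ P.Uw (F.s i) := fun hu =>
    USub_mono (fun r hr => And.intro hr.1 (not_isPos_w0J hr.1 hr.2)) hu
  obtain ⟨-, e, -⟩ := E.nd.bruhat_over_unique h4 (s_inv (F := F) i ▸ h4.inv) (inv_mem (P.UL_le_U _ hx))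
    (P.UL_le_U _ hx') (inv_mem (b hx')) (b hx) (by
      have := congrArg f (mul_eq_one_iff_eq_inv.mp h5)
      simp only [map_mul, map_inv] at this ⊢
      calc _ = f z := by group
        _ = (f z)⁻¹ := this
        _ = _ := by group)
  have := E.invW_conj (inv_mem hv) (y := f y) ⟨⟨y, rfl⟩, h2, f (x * m), ⟨_, rfl⟩, by
    rw [← hz, map_mul, map_mul, ← e] at h4
    simpa [mul_assoc] using h4⟩
  rwa [inv_inv] at this

theorem ncard_invol {Rs : List G} (h1 : ∀ y ∈ Rs, y ∈ f.range ∧ orderOf y = 2)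
    (h2 : ∀ z : Γ, orderOf z = 2 → ∃ y ∈ Rs, ∃ g ∈ f.range, g * f z * g⁻¹ = y) (h3 : Rs.Pairwise fun y z => ¬ IsConj y z) :
    ∃ Rs' : List Γ, Rs'.map f = Rs ∧ (∀ z ∈ Rs', orderOf z = 2) ∧ (∀ z, orderOf z = 2 → ∃ y ∈ Rs', IsConj z y) ∧
      Rs'.Pairwise fun y z => ¬ IsConj y z := by
  have h : (Rs.map (Function.invFun f)).map f = Rs := by
    rw [List.map_map]
    exact (List.map_congr_left fun y hy => Function.invFun_eq (h1 y hy).1).trans (List.map_id _)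
  refine ⟨_, h, fun z hz => ?_, fun z hz => ?_, ?_⟩
  · rw [← orderOf_injective f E.inj]
    exact (h1 _ (h ▸ List.mem_map_of_mem hz)).2
  · obtain ⟨y, hy, _, ⟨g, rfl⟩, e⟩ := h2 z hz
    refine ⟨_, List.mem_map_of_mem hy, isConj_iff.mpr ⟨g, E.inj ?_⟩⟩
    rw [Function.invFun_eq (h1 y hy).1, ← e]; simp
  · rw [← h, List.pairwise_map] at h3
    exact h3.imp fun h e => h (f.map_isConj e)

end Emb
end Fold
end Cfsg.Agent.Chev
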