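import Mathlib
import Cfsg.Agent.Lib.Tw.Invol
import Cfsg.Agent.Lib.Tw.Fold2

/-! Automorphisms of the fixed point group of a folding permute the rank one subgroups, up to inner automorphisms. -/

set_option autoImplicit false
set_option linter.unusedSectionVars false

namespace Cfsg.Agent.Chev
open RSys PreRGD
variable {ι I : Type*} [Fintype I] [DecidableEq I] {R : RSys ι I} {G : Type*} [Group G] [Fintype ι] [DecidableEq ι]

theorem RSys.intv_of_disjoint {J K : Set I} (h : Disjoint J K) {r s : ι} (hr : R.IsPos r ∧ R.InSub J r)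
    (hs : ¬ R.IsPos s ∧ R.InSub K s) : s ≠ R.neg r ∧ R.intv r s = ∅ := by
  obtain ⟨i, hi⟩ := hr.1.exists_pos
  obtain ⟨l, hl⟩ := (isPos_neg_iff.mpr hs.1).exists_pos
  have h1 := hs.2 i (Set.disjoint_left.mp h (Fold.mem_of_rc_pos hr.2 hi))
  have h2 := hr.2 l (Set.disjoint_right.mp h (Fold.mem_of_rc_pos (inSub_neg.mpr hs.2) hl))
  refine ⟨fun e => by simp [e, R.rc_neg, hi.ne'] at h1, Set.eq_empty_of_forall_notMem fun k ⟨a, b, ha, hb, e⟩ => ?_⟩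
  have h3 := isPos_of_coord (R := R) (r := k) (i := i) (by simp [e, h1, ha, hi]) l
  rw [R.rc_neg, Pi.neg_apply] at hl
  simp only [e, Pi.add_apply, Pi.smul_apply, h2, smul_eq_mul, Pi.zero_apply] at h3
  nlinarith

namespace PreRGD
variable {P : PreRGD R G}

theorem commute_UL_VL {J K : Set I} (h : Disjoint J K) {a b : G} (ha : a ∈ P.UL J) (hb : b ∈ P.VL K) :
    Commute a b := by
  have := comm_mem_of_USub (N := ⊥) Subgroup.le_normalizer_of_normal Subgroup.le_normalizer_of_normal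
    (fun r hr s hs x hx y hy => by
    obtain ⟨h1, h2⟩ := intv_of_disjoint h hr hs
    simpa [h2] using P.comm r s h1 x hx y hy) ha hb
  rwa [Subgroup.mem_bot, mul_inv_eq_one, mul_inv_eq_iff_eq_mul] at this

theorem Nondeg.mem_VL_iff (hP : P.Nondeg) {J : Set I} {g : G} : g ∈ P.VL J ↔ g ∈ P.V ∧ g ∈ P.PJ J := by
  refine ⟨fun h => ⟨P.VL_le_V J h, P.GJ_le_PJ J (P.VL_le_GJ J h)⟩, fun ⟨h1, h2⟩ => ?_⟩
  obtain ⟨v, hv, x, hx, rfl⟩ := (P.commOn_halfSpace halfSpace_neg).exists_mul halfSpace_neg closed_neg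
    (A := {r | ¬ R.IsPos r ∧ ¬ R.InSub J r}) (B := {r | ¬ R.IsPos r ∧ R.InSub J r}) (Set.ext fun r =>
      ⟨fun h => h.elim (·.1) (·.1), fun h => (em (R.InSub J r)).symm.imp (⟨h, ·⟩) (⟨h, ·⟩)⟩) h1
  rwa [hP.eq_one_of_mem_VJ_PJ hv ((Subgroup.mul_mem_cancel_right _ (P.GJ_le_PJ J (P.VL_le_GJ J hx))).mp h2), one_mul]

theorem Nondeg.eq_one_of_disjoint (hP : P.Nondeg) {J K : Set I} (h : Disjoint J K) {g : G} (h1 : g ∈ P.UL J)
    (h2 : g ∈ P.UL K) : g = 1 :=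
  hP.eq_one_of_mem_UJ_UL (USub_mono (fun r hr => And.intro hr.1 fun h' => by
    obtain ⟨i, hi⟩ := hr.1.exists_pos
    exact Set.disjoint_left.mp h (Fold.mem_of_rc_pos hr.2 hi) (Fold.mem_of_rc_pos h' hi)) h1) h2

theorem Over.w0_conj_iff {m : G} (h : P.Over m R.w0) :
    (∀ x, m * x * m⁻¹ ∈ P.U ↔ x ∈ P.V) ∧ ∀ x, m * x * m⁻¹ ∈ P.V ↔ x ∈ P.U := by
  have a1 : ∀ {m}, P.Over m R.w0 → ∀ x ∈ P.V, m * x * m⁻¹ ∈ P.U := fun h x hx =>
    h.conj_US (S := {r | ¬ R.IsPos r}) (T := {r | R.IsPos r}) (fun s hs => isPos_w0_iff.mpr hs) hx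
  have a2 : ∀ {m}, P.Over m R.w0 → ∀ x ∈ P.U, m * x * m⁻¹ ∈ P.V := fun h x hx =>
    h.conj_US (S := {r | R.IsPos r}) (T := {r | ¬ R.IsPos r}) (fun s hs h' => isPos_w0_iff.mp h' hs) hx
  have h' := w0_inv (R := R) ▸ h.inv
  exact ⟨fun x => ⟨fun e => by simpa [mul_assoc] using a2 h' _ e, a1 h x⟩,
    fun x => ⟨fun e => by simpa [mul_assoc] using a1 h' _ e, a2 h x⟩⟩

end PreRGD

namespace Fold
variable {P : PreRGD R G} {F : Fold P}

theorem disjoint_orb {i j : I} (h : F.orb i ≠ F.orb j) : Disjoint (F.orb i) (F.orb j) :=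
  Set.disjoint_left.mpr fun _ h1 h2 => h ((orb_eq h1).symm.trans (orb_eq h2))

theorem UL_le_Uw (i : I) : P.UL (F.orb i) ≤ P.Uw (F.s i) :=
  USub_mono fun _ hr => And.intro hr.1 (not_isPos_w0J hr.1 hr.2)

theorem Uw_le_UL (i : I) : P.Uw (F.s i) ≤ P.UL (F.orb i) := Nondeg.Uw_le_UL (s_mem_WJ i)

theorem inSub_opp {i : I} {r : ι} (hr : R.InSub (F.orb i) r) : R.InSub (F.orb (R.opp i)) (R.w0 r) := by
  refine Aut.inSub_of_simple (R.W_le_Aut w0_mem) (fun j hj => ?_) hr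
  rw [w0_simple, inSub_neg, inSub_simple]
  refine orb_induction (C := fun j => R.opp j ∈ F.orb (R.opp i)) (mem_orb_self _) (fun j h => ?_) hj
  have := (mem_WF.mp (w0_mem_WF (F := F))).2 (R.simple j)
  rw [F.ρ_simple, w0_simple, w0_simple, F.ρ_neg, F.ρ_simple, R.neg_inj'] at this
  rw [← R.simple_inj this]
  exact (stI_orb _ _).mpr h

namespace Emb
variable {Γ : Type*} [Group Γ] {f : Γ →* G} (E : F.Emb f)
include E

theorem exists_UL_ne (i : I) : ∃ x, f x ∈ P.UL (F.orb i) ∧ x ≠ 1 := by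
  obtain ⟨y, hy, h1⟩ := E.exists_VL_ne i
  exact ⟨E.n i * y * (E.n i)⁻¹, by simpa using (E.over_n i).w0J_conj_VL hy, fun e => h1 (conj_eq_one_iff.mp e)⟩

theorem eq_one_of_V_B {g : Γ} (h1 : f g ∈ P.V) (h2 : f g ∈ P.B) : g = 1 :=
  E.inj ((E.nd.eq_one_of_mem_V_B h1 h2).trans (map_one f).symm)

theorem mem_B_of_conj {g : Γ} (h : ∀ u, f u ∈ P.U → f (g * u * g⁻¹) ∈ P.B) : f g ∈ P.B := by
  obtain ⟨w, hw, m, u, v, hm, hu, hv, rfl⟩ := E.bruhat g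
  replace hv := P.Uw_le_U w hv
  obtain rfl : w = 1 := eq_one_of_forall_pos hm.1 fun i => by_contra fun hi => by
    obtain ⟨x, hx, h1⟩ := E.exists_UL_ne i
    have h2 := h (v⁻¹ * x * v) (by simpa using mul_mem (mul_mem (inv_mem hv) (P.UL_le_U _ hx)) hv)
    refine h1 (conj_eq_one_iff.mp (E.eq_one_of_V_B (g := m * x * m⁻¹) (by
      simpa [PreRGD.V] using hm.conj_US (T := {r | ¬ R.IsPos r}) (fun r hr => not_isPos_of_orb hw hi hr.1 hr.2) hx) ?_))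
    simpa [mul_assoc] using mul_mem (mul_mem (inv_mem (P.U_le_B hu)) h2) (P.U_le_B hu)
  simpa using mul_mem (mul_mem (P.U_le_B hu) (P.H_le_B (over_one_iff.mp hm))) (P.U_le_B hv)

theorem mem_H_of_conj {g : Γ} (h : ∀ u, f u ∈ P.U → f (g * u * g⁻¹) ∈ P.U)
    (h' : ∀ u, f u ∈ P.V → f (g * u * g⁻¹) ∈ P.V) : f g ∈ P.H := by
  obtain ⟨m, hm⟩ := E.exists_over w0_mem_WF
  obtain ⟨a1, a2⟩ := hm.w0_conj_iff
  have h1 := E.mem_B_of_conj (g := m * g * m⁻¹) fun u hu => P.U_le_B (by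
    simpa [mul_assoc] using (a1 _).mpr (h' (m⁻¹ * u * m) ((a1 _).mp (by simpa [mul_assoc] using hu))))
  refine E.nd.mem_H_of_mem_B_Bm (E.mem_B_of_conj fun u hu => P.U_le_B (h u hu)) (mem_Bm_iff.mpr ?_)
  have h2 := (over_nW (P := P) w0_mem).mul_inv_mem hm
  simpa [mul_assoc] using mul_mem (mul_mem (P.H_le_B h2) h1) (inv_mem (P.H_le_B h2))

theorem exists_conj_V {S : Subgroup Γ} {g : Γ} (h : ∀ x, x ∈ S ↔ f (g⁻¹ * x * g) ∈ P.U)
    (hS : ∀ x ∈ S, f x ∈ P.U → x = 1) : ∃ u, f u ∈ P.U ∧ ∀ x, x ∈ S ↔ f (u⁻¹ * x * u) ∈ P.V := by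
  obtain ⟨w, hw, m, u, v, hm, hu, hv, rfl⟩ := E.bruhat g
  replace hv := P.Uw_le_U w hv
  obtain rfl : w = R.w0 := eq_w0 hm.1 fun j hj => by
    obtain ⟨x, hx, hx1⟩ := E.exists_UL_ne j
    have := hS (u * (m * x * m⁻¹) * u⁻¹) ((h _).mpr (by
      simpa [mul_assoc] using mul_mem (mul_mem (inv_mem hv) (P.UL_le_U _ hx)) hv)) (by
      simpa using mul_mem (mul_mem hu (hm.conj_US (T := {r | R.IsPos r})
        (fun r hr => isPos_of_orb hw hj hr.1 hr.2) hx)) (inv_mem hu))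
    exact hx1 (conj_eq_one_iff.mp (conj_eq_one_iff.mp this))
  refine ⟨u, hu, fun x => (h x).trans ?_⟩
  rw [← mul_mem_cancel_left hv, ← mul_mem_cancel_right (inv_mem hv), ← hm.w0_conj_iff.2]
  simp [mul_assoc]

theorem exists_conj_UV [Finite Γ] {p : ℕ} [Fact p.Prime] (h1 : IsPGroup p (P.U.comap f))
    (h2 : (P.U.comap f).index.Coprime p) (θ : MulAut Γ) :
    ∃ x : Γ, (∀ y, f ((MulAut.conj x * θ : MulAut Γ) y) ∈ P.U ↔ f y ∈ P.U) ∧
      ∀ y, f ((MulAut.conj x * θ : MulAut Γ) y) ∈ P.V ↔ f y ∈ P.V := by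
  let S := h1.toSylow ((Nat.Prime.coprime_iff_not_dvd Fact.out).mp h2.symm)
  have key : ∀ θ : MulAut Γ, ∃ g, ∀ y, f (g * θ y * g⁻¹) ∈ P.U ↔ f y ∈ P.U := fun θ => by
    obtain ⟨g, hg⟩ := MulAction.exists_smul_eq Γ (θ • S) S
    refine ⟨g, fun y => ?_⟩
    change _ ∈ (S : Subgroup Γ) ↔ _ ∈ (S : Subgroup Γ)
    conv_lhs => rw [← hg]
    rw [Sylow.coe_subgroup_smul, Sylow.pointwise_smul_def, ← MulAut.conj_apply, ← MulAut.smul_def, ← MulAut.smul_def,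
      Subgroup.smul_mem_pointwise_smul_iff, Subgroup.smul_mem_pointwise_smul_iff]
  obtain ⟨g, hg⟩ := key θ
  obtain ⟨θ₁, e⟩ : ∃ θ₁, θ₁ = MulAut.conj g * θ := ⟨_, rfl⟩
  replace hg : ∀ y, f (θ₁ y) ∈ P.U ↔ f y ∈ P.U := e ▸ hg
  obtain ⟨m, hm⟩ := E.exists_over w0_mem_WF
  obtain ⟨g', hg'⟩ := key (θ₁ * MulAut.conj m)
  obtain ⟨u, hu, h⟩ := E.exists_conj_V (S := (P.V.comap f).comap θ₁.symm.toMonoidHom) (g := g'⁻¹) (fun x => by
      obtain ⟨x, rfl⟩ := (θ₁ * MulAut.conj m).surjective x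
      rw [inv_inv, hg', ← hm.w0_conj_iff.2, MulAut.mul_apply]; simp) fun x h1 h2 => by
      obtain ⟨x, rfl⟩ := θ₁.surjective x
      rw [E.eq_one_of_V_B (g := x) (by simpa using h1) (P.U_le_B ((hg x).mp h2)), map_one]
  refine ⟨u⁻¹ * g, fun y => ?_, fun y => ?_⟩ <;> rw [map_mul, mul_assoc, ← e]
  · rw [← hg y, ← mul_mem_cancel_left hu, ← mul_mem_cancel_right (inv_mem hu)]
    simp [mul_assoc]
  · simpa using (h (θ₁ y)).symm

theorem n_mem_PJ_iff {J : Set I} (hJ : F.StI J) {i : I} : f (E.n i) ∈ P.PJ J ↔ i ∈ J :=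
  ⟨fun h => inSub_simple.mp (inSub_of_mem_invs (E.nd.mem_WJ_of_mem_cell (E.over_n i).1 (E.over_n i).mem_cell h)
    (mem_invs.mpr ⟨R.isPos_simple i, not_isPos_s i⟩)),
    fun h => P.NJ_le_PJ J ((E.over_n i).mem_NJ (R.WJ_mono (hJ.orb_subset h) (s_mem_WJ i)))⟩

theorem n_mem_of {i : I} {A : Subgroup Γ} (h : ∀ g, f g ∈ P.UL (F.orb i) → g ∈ A)
    (h' : ∀ g, f g ∈ P.VL (F.orb i) → g ∈ A) : E.n i ∈ A := by
  obtain ⟨x, hx, y, hy, x', hx', e⟩ := (E.exists_n i).choose_spec.2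
  rw [n, e]
  exact mul_mem (mul_mem (h x hx) (h' y hy)) (h x' hx')

theorem exists_PJ {A : Subgroup Γ} (hA : ∀ g, f g ∈ P.B → g ∈ A) : ∃ J, F.StI J ∧ ∀ g, g ∈ A ↔ f g ∈ P.PJ J := by
  have h0 : ∀ {m m' w}, P.Over (f m) w → P.Over (f m') w → m ∈ A → m' ∈ A := fun h h' hm =>
    (mul_mem_cancel_left (inv_mem hm)).mp (hA _ (by simpa using P.H_le_B (h.inv_mul_mem h')))
  have hJ : F.StI {i | E.n i ∈ A} := fun i =>
    have e := s_eq ((stI_orb i i).mpr (mem_orb_self (F := F) i))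
    ⟨h0 (E.over_n _) (e ▸ E.over_n i), h0 (e ▸ E.over_n i) (E.over_n _)⟩
  have h1 : ∀ w ∈ F.WF, ∀ m, P.Over (f m) w → (m ∈ A ↔ w ∈ R.WJ {i | E.n i ∈ A}) := fun w hw => by
    refine WF_induction (C := fun w => ∀ m, P.Over (f m) w → (m ∈ A ↔ w ∈ R.WJ {i | E.n i ∈ A}))
      (fun m hm => ⟨fun _ => one_mem _, fun _ => hA _ (P.H_le_B (over_one_iff.mp hm))⟩) (fun w hw i hi ih m hm => ?_) hw
    have a1 := ih (m * (E.n i)⁻¹) (by simpa [mul_assoc] using hm.mul (E.over_n i).inv)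
    have a2 : ¬ R.IsPos ((w * F.s i) (R.simple i)) := by rwa [isPos_mul_s hw, not_not]
    have a3 : E.n i ∈ A → (m ∈ A ↔ w * F.s i ∈ R.WJ {i | E.n i ∈ A}) := fun h => by
      rw [mul_mem_cancel_right (R.WJ_mono (hJ.orb_subset h) (s_mem_WJ i)), ← a1, mul_mem_cancel_right (inv_mem h)]
    refine ⟨fun h => (a3 (E.n_mem_of (fun g hg => hA g (P.U_le_B (P.UL_le_U _ hg))) fun y hy => ?_)).mp h,
      fun h => (a3 ((inSub_simple (R := R)).mp (inSub_of_mem_invs h (mem_invs.mpr ⟨R.isPos_simple i, a2⟩)))).mpr h⟩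
    have := hA (m * y * m⁻¹) (P.U_le_B (by
      simpa [PreRGD.U] using hm.conj_US (T := {r | R.IsPos r})
        (fun r hr => isPos_of_orb' (mul_mem hw (s_mem i)) a2 hr.1 hr.2) hy))
    rwa [mul_mem_cancel_right (inv_mem h), mul_mem_cancel_left h] at this
  refine ⟨_, hJ, fun g => ?_⟩
  obtain ⟨w, hw, m, u, v, hm, hu, hv, rfl⟩ := E.bruhat g
  replace hv := P.U_le_B (P.Uw_le_U w hv)
  replace hu := P.U_le_B hu
  rw [mul_mem_cancel_right (hA v hv), mul_mem_cancel_left (hA u hu), map_mul, map_mul,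
    mul_mem_cancel_right (P.B_le_PJ _ hv), mul_mem_cancel_left (P.B_le_PJ _ hu), h1 w hw m hm]
  exact ⟨fun h => P.NJ_le_PJ _ (hm.mem_NJ h), E.nd.mem_WJ_of_mem_cell hm.1 hm.mem_cell⟩

theorem eq_one_of_conj_V {i : I} {z y : Γ} (hz : f z ∈ P.UL (F.orb i)) (hy : f y ∈ P.VL (F.orb i)) (h1 : y ≠ 1)
    (h : f (z * y * z⁻¹) ∈ P.V) : z = 1 := by
  by_contra h2
  have hn := E.over_n i
  obtain ⟨x, x', hx, hx', h3⟩ := E.rank1 (y := E.n i * z * (E.n i)⁻¹) (by simpa using hn.w0J_conj_UL hz)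
    fun e => h2 (conj_eq_one_iff.mp e)
  have h4 := hn.w0J_conj_VL hy
  have h5 := hn.w0J_conj_VL (E.nd.mem_VL_iff.mpr ⟨h, by
    simpa using mul_mem (mul_mem (P.GJ_le_PJ _ (P.UL_le_GJ _ hz)) (P.GJ_le_PJ _ (P.VL_le_GJ _ hy)))
      (inv_mem (P.GJ_le_PJ _ (P.UL_le_GJ _ hz)))⟩)
  have h6 := E.nd.eq_one_of_mem_V_B (P.VL_le_V _ (h3.w0J_conj_UL (mul_mem (mul_mem (inv_mem hx') h4) hx'))) (by
    simpa [mul_assoc] using P.U_le_B (P.UL_le_U _ (mul_mem (mul_mem hx h5) (inv_mem hx))))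
  rw [conj_eq_one_iff, mul_assoc, inv_mul_eq_one, eq_comm, mul_eq_right, conj_eq_one_iff] at h6
  exact h1 (E.inj (h6.trans (map_one f).symm))

theorem not_commute (i : I) : ¬ ∀ x y, f x ∈ P.UL (F.orb i) → f y ∈ P.VL (F.orb i) → Commute x y := fun h => by
  obtain ⟨x, hx, h1⟩ := E.exists_UL_ne i
  obtain ⟨y, hy, h2⟩ := E.exists_VL_ne i
  exact h1 (E.eq_one_of_conj_V hx hy h2 (by rw [(h x y hx hy).eq, mul_inv_cancel_right]; exact P.VL_le_V _ hy))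

theorem orb_eq_of_mem {i j : I} {x : Γ} (h1 : f x ∈ P.UL (F.orb i)) (h2 : f x ∈ P.UL (F.orb j)) (h : x ≠ 1) :
    F.orb i = F.orb j :=
  by_contra fun e => h (E.inj ((E.nd.eq_one_of_disjoint (disjoint_orb e) h1 h2).trans (map_one f).symm))

variable {θ : Γ ≃* Γ} (hU : ∀ x, f (θ x) ∈ P.U ↔ f x ∈ P.U)
include hU

theorem aut_mem_B {x : Γ} : f (θ x) ∈ P.B ↔ f x ∈ P.B := by
  refine ⟨fun h => E.mem_B_of_conj fun u hu => P.U_le_B ((hU _).mp ?_),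
    fun h => E.mem_B_of_conj fun u hu => P.U_le_B ?_⟩
  · simpa using B_conj_U h ((hU u).mpr hu)
  · obtain ⟨u, rfl⟩ := θ.surjective u
    rw [← map_inv, ← map_mul, ← map_mul, hU]
    simpa using B_conj_U h ((hU u).mp hu)

theorem exists_PJ_eq (J : Set I) : ∃ K, F.StI K ∧ ∀ x, f (θ x) ∈ P.PJ K ↔ f x ∈ P.PJ J := by
  obtain ⟨K, hK, h⟩ := E.exists_PJ (A := ((P.PJ J).comap f).comap θ.symm.toMonoidHom) fun g hg =>
    P.B_le_PJ J ((E.aut_mem_B hU).mp (by simpa using hg))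
  exact ⟨K, hK, fun x => by simp [← h]⟩

theorem exists_PJ_orb (i : I) : ∃ j, ∀ x, f (θ x) ∈ P.PJ (F.orb j) ↔ f x ∈ P.PJ (F.orb i) := by
  have h0 : ∀ i, f (E.n i) ∉ P.B := fun i h => (E.n_mem_PJ_iff (J := ∅) fun _ => Iff.rfl).mp (P.PJ_empty ▸ h)
  obtain ⟨K, sK, hK⟩ := E.exists_PJ_eq hU (F.orb i)
  obtain ⟨j, hj⟩ : K.Nonempty := Set.nonempty_iff_ne_empty.mpr fun e => h0 i (by
    rw [← E.aut_mem_B hU, ← P.PJ_empty, ← e, hK, E.n_mem_PJ_iff (stI_orb i)]; exact mem_orb_self i)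
  obtain ⟨L, sL, hL⟩ := E.exists_PJ_eq (θ := θ.symm) (fun x => by rw [← hU]; simp) (F.orb j)
  have h1 : L ⊆ F.orb i := fun l hl => (E.n_mem_PJ_iff (stI_orb i)).mp ((hK _).mp (P.PJ_mono (sK.orb_subset hj)
    ((hL _).mp (by simpa using (E.n_mem_PJ_iff sL).mpr hl))))
  obtain ⟨l, hl⟩ : L.Nonempty := Set.nonempty_iff_ne_empty.mpr fun e => h0 j (by
    rw [← θ.apply_symm_apply (E.n j), E.aut_mem_B hU, ← P.PJ_empty, ← e, hL, E.n_mem_PJ_iff (stI_orb j)]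
    exact mem_orb_self j)
  exact ⟨j, fun x => by rw [← hL, h1.antisymm (orb_eq (h1 hl) ▸ sL.orb_subset hl)]; simp⟩

variable (hV : ∀ x, f (θ x) ∈ P.V ↔ f x ∈ P.V)
include hV

theorem aut_mem_H {x : Γ} (h : f x ∈ P.H) : f (θ x) ∈ P.H := by
  refine E.mem_H_of_conj (fun u hu => ?_) fun u hu => ?_ <;> obtain ⟨u, rfl⟩ := θ.surjective u <;>
    rw [← map_inv, ← map_mul, ← map_mul]
  · rw [hU, map_mul, map_mul, map_inv]; exact P.H_conj_US h ((hU u).mp hu)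
  · rw [hV, map_mul, map_mul, map_inv]; exact P.H_conj_US h ((hV u).mp hu)

theorem exists_VL (i : I) : ∃ j, ∀ x, f (θ x) ∈ P.VL (F.orb j) ↔ f x ∈ P.VL (F.orb i) := by
  obtain ⟨j, h⟩ := E.exists_PJ_orb hU i
  exact ⟨j, fun x => by rw [E.nd.mem_VL_iff, E.nd.mem_VL_iff, hV, h]⟩

theorem exists_UL (i : I) : ∃ j, ∀ x, f (θ x) ∈ P.UL (F.orb j) ↔ f x ∈ P.UL (F.orb i) := by
  obtain ⟨m, hm⟩ := E.exists_over w0_mem_WF
  obtain ⟨a1, a2⟩ := hm.w0_conj_iff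
  have a3 : ∀ i x, f m * x * (f m)⁻¹ ∈ P.VL (F.orb (R.opp i)) ↔ x ∈ P.UL (F.orb i) := fun i x =>
    ⟨fun h => by
      have := (w0_inv (R := R) ▸ hm.inv).conj_US
        (S := {r | ¬ R.IsPos r ∧ R.InSub (F.orb (R.opp i)) r}) (T := {r | R.IsPos r ∧ R.InSub (F.orb i) r})
        (fun r hr => ⟨isPos_w0_iff.mpr hr.1, by simpa using inSub_opp hr.2⟩) h
      simpa [mul_assoc, UL] using this,
      fun h => hm.conj_US (T := {r | ¬ R.IsPos r ∧ R.InSub (F.orb (R.opp i)) r})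
        (fun r hr => ⟨fun h => isPos_w0_iff.mp h hr.1, inSub_opp hr.2⟩) h⟩
  obtain ⟨j, h⟩ := E.exists_VL (θ := MulAut.conj m * θ * (MulAut.conj m)⁻¹)
    (fun x => by
      rw [MulAut.mul_apply, MulAut.mul_apply, MulAut.conj_apply, map_mul, map_mul, map_inv, a1, hV, ← a1]
      simp [mul_assoc])
    (fun x => by
      rw [MulAut.mul_apply, MulAut.mul_apply, MulAut.conj_apply, map_mul, map_mul, map_inv, a2, hU, ← a2]
      simp [mul_assoc]) (R.opp i)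
  refine ⟨R.opp j, fun x => ?_⟩
  rw [← a3 i, ← map_inv, ← map_mul, ← map_mul, ← h, ← a3, opp_opp]
  simp [mul_assoc]

theorem exists_node (i : I) : ∃ j, (∀ x, f (θ x) ∈ P.UL (F.orb j) ↔ f x ∈ P.UL (F.orb i)) ∧
    ∀ x, f (θ x) ∈ P.VL (F.orb j) ↔ f x ∈ P.VL (F.orb i) := by
  obtain ⟨j, h⟩ := E.exists_UL hU hV i
  obtain ⟨j', h'⟩ := E.exists_VL hU hV i
  refine ⟨j, h, ?_⟩
  rwa [show F.orb j = F.orb j' from by_contra fun e => E.not_commute i fun x y hx hy => θ.injective (E.inj ?_)]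
  simpa using (commute_UL_VL (disjoint_orb e) ((h x).mpr hx) ((h' y).mpr hy)).eq

omit hU in
theorem fix_VL {i : I} (h : ∀ x, f x ∈ P.VL (F.orb i) → f (θ x) ∈ P.VL (F.orb i))
    (h1 : ∀ x, f x ∈ P.UL (F.orb i) → θ x = x) {y : Γ} (hy : f y ∈ P.VL (F.orb i)) : θ y = y := by
  by_cases h0 : y = 1
  · simp [h0]
  obtain ⟨x, x', hx, hx', h2⟩ := E.rank1 hy h0
  obtain ⟨z, z', hz, hz', h3⟩ := E.rank1 (h y hy) (by simpa using h0)
  obtain ⟨a, ha, a1⟩ := E.exists_UL_ne i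
  have b1 : f (x'⁻¹ * a * x') ∈ P.UL (F.orb i) := by simpa using mul_mem (mul_mem (inv_mem hx') ha) hx'
  have b2 : f (z'⁻¹ * a * z') ∈ P.UL (F.orb i) := by simpa using mul_mem (mul_mem (inv_mem hz') ha) hz'
  have h4 := E.eq_one_of_conj_V (z := x * z⁻¹) (y := z * θ y * a * (z * θ y)⁻¹)
    (by simpa using mul_mem hx (inv_mem hz)) (by simpa [mul_assoc] using h3.w0J_conj_UL b2)
    (fun e => a1 (conj_eq_one_iff.mp e)) (by
      have := (hV (x * y * a * (x * y)⁻¹)).mpr (by simpa [mul_assoc] using P.VL_le_V _ (h2.w0J_conj_UL b1))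
      simpa [mul_assoc, h1 x hx, h1 a ha] using this)
  rw [mul_inv_eq_one] at h4
  subst h4
  rw [eq_comm, ← inv_mul_eq_one]
  refine E.eq_one_of_V_B (by simpa using mul_mem (inv_mem (P.VL_le_V _ hy)) (P.VL_le_V _ (h y hy))) ?_
  simpa [mul_assoc] using mul_mem (mul_mem (P.U_le_B (P.UL_le_U _ hx')) (P.H_le_B (h2.inv_mul_mem h3)))
    (inv_mem (P.U_le_B (P.UL_le_U _ hz')))

omit hU hV in
theorem not_commute_UL {i j : I} (hij : F.orb i ≠ F.orb j)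
    (h : ∀ r, R.IsPos r → R.InSub (F.orb i) r → ¬ R.InSub (F.orb i) (F.s j r)) :
    ¬ ∀ x y, f x ∈ P.UL (F.orb i) → f y ∈ P.UL (F.orb j) → Commute x y := fun hc => by
  obtain ⟨x, hx, h1⟩ := E.exists_UL_ne i
  have h2 := E.n_mem_of (i := j) (A := Subgroup.centralizer {x})
    (fun g hg => Subgroup.mem_centralizer_singleton_iff.mpr (hc x g hx hg).eq.symm) fun g hg =>
      Subgroup.mem_centralizer_singleton_iff.mpr (E.inj (by
        simpa using (commute_UL_VL (disjoint_orb hij) hx hg).eq.symm))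
  have h3 := (E.over_n j).conj_US (T := {r | R.IsPos r ∧ ¬ R.InSub (F.orb i) r}) (fun r hr => ⟨by_contra fun h' => by
    obtain ⟨l, hl⟩ := hr.1.exists_pos
    exact Set.disjoint_left.mp (disjoint_orb hij) (mem_of_rc_pos hr.2 hl) (mem_of_rc_pos
      (inSub_of_mem_invs (s_mem_WJ j) (mem_invs.mpr ⟨hr.1, h'⟩)) hl), h r hr.1 hr.2⟩) hx
  rw [← map_inv, ← map_mul, ← map_mul, Subgroup.mem_centralizer_singleton_iff.mp h2, mul_inv_cancel_right] at h3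
  exact h1 (E.inj ((E.nd.eq_one_of_mem_UJ_UL h3 hx).trans (map_one f).symm))

theorem exists_rep_perm {A : Type*} {rep : A → I} (hrep : ∀ i, ∃ a, i ∈ F.orb (rep a))
    (hinj : ∀ a b, rep a ∈ F.orb (rep b) → a = b) : ∃ π : A → A, Function.Injective π ∧ ∀ a,
      (∀ x, f (θ x) ∈ P.UL (F.orb (rep (π a))) ↔ f x ∈ P.UL (F.orb (rep a))) ∧
        ∀ x, f (θ x) ∈ P.VL (F.orb (rep (π a))) ↔ f x ∈ P.VL (F.orb (rep a)) := by
  choose g hg using hrep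
  choose j hj using E.exists_node hU hV
  refine ⟨fun a => g (j (rep a)), fun a b e => ?_, fun a => by simpa only [← orb_eq (hg _)] using hj (rep a)⟩
  obtain ⟨x, hx, h1⟩ := E.exists_UL_ne (rep a)
  have h2 := ((hj _).1 x).mpr hx
  rw [orb_eq (hg _), show g (j (rep a)) = g (j (rep b)) from e, ← orb_eq (hg _), (hj _).1] at h2
  exact hinj a b (E.orb_eq_of_mem hx h2 h1 ▸ mem_orb_self _)

end Emb
end Fold

section
variable {Γ : Type*} [Group Γ] (f : Γ →* G)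

/-- The automorphisms that preserve the preimage of `S`. -/
def Keep (S : Subgroup G) : Subgroup (MulAut Γ) where
  carrier := {θ | ∀ x, f (θ x) ∈ S ↔ f x ∈ S}
  one_mem' _ := Iff.rfl
  mul_mem' h h' x := (h _).trans (h' x)
  inv_mem' {θ} h x := by rw [← h]; simp

/-- The automorphisms that fix the preimage of `S` pointwise. -/
def FixP (S : Subgroup G) : Subgroup (MulAut Γ) where
  carrier := {θ | ∀ x, f x ∈ S → θ x = x}
  one_mem' _ _ := rfl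
  mul_mem' h h' x hx := by rw [MulAut.mul_apply, h' x hx, h x hx]
  inv_mem' {θ} h x hx := by rw [MulAut.inv_apply, MulEquiv.symm_apply_eq, h x hx]

variable {P : PreRGD R G} (F : Fold P)

/-- The automorphisms that preserve `U`, `V` and the rank one subgroups. -/
def Fold.Pres : Subgroup (MulAut Γ) :=
  Keep f P.U ⊓ Keep f P.V ⊓ ⨅ i, Keep f (P.UL (F.orb i)) ⊓ Keep f (P.VL (F.orb i))

variable {F f} {θ : MulAut Γ}

theorem Fold.mem_Pres : θ ∈ F.Pres f ↔ (θ ∈ Keep f P.U ∧ θ ∈ Keep f P.V) ∧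
    ∀ i, θ ∈ Keep f (P.UL (F.orb i)) ∧ θ ∈ Keep f (P.VL (F.orb i)) := by
  simp only [Fold.Pres, Subgroup.mem_inf, Subgroup.mem_iInf]

namespace Fold.Emb
variable (E : F.Emb f)
include E

theorem fixP_VL (h : θ ∈ F.Pres f) {i : I} (h1 : θ ∈ FixP f (P.UL (F.orb i))) : θ ∈ FixP f (P.VL (F.orb i)) :=
  fun _ hy => E.fix_VL (mem_Pres.mp h).1.2 (fun x => (((mem_Pres.mp h).2 i).2 x).mpr) h1 hy

theorem aut_eq_one (hf : f.range ≤ F.gen) {A : Type*} {rep : A → I} (hrep : ∀ i, ∃ a, i ∈ F.orb (rep a))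
    (h : θ ∈ F.Pres f) (h1 : ∀ a, θ ∈ FixP f (P.UL (F.orb (rep a)))) : θ = 1 := by
  have h2 : F.gen ≤ (θ.toMonoidHom.eqLocus (MonoidHom.id Γ)).map f := (Subgroup.closure_le _).mpr (by
    rintro g ⟨e, i, hg⟩
    obtain ⟨a, ha⟩ := hrep i
    rw [orb_eq ha] at hg
    rcases hg with hg | hg
    · obtain ⟨g, rfl⟩ := E.exists_U (P.UL_le_U _ hg) e
      exact ⟨g, h1 a g hg, rfl⟩
    · obtain ⟨g, rfl⟩ := E.exists_V (P.VL_le_V _ hg) e
      exact ⟨g, E.fixP_VL h (h1 a) g hg, rfl⟩)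
  ext g
  obtain ⟨g', hg, e⟩ := h2 (hf ⟨g, rfl⟩)
  exact E.inj e ▸ hg

theorem exists_pres [Finite Γ] {p : ℕ} [Fact p.Prime] (h1 : IsPGroup p (P.U.comap f))
    (h2 : (P.U.comap f).index.Coprime p) {A : Type*} {rep : A → I} (hrep : ∀ i, ∃ a, i ∈ F.orb (rep a))
    (hinj : ∀ a b, rep a ∈ F.orb (rep b) → a = b) (h : ∀ (θ : MulAut Γ) (π : A → A), Function.Injective π →
      (∀ a x, f (θ x) ∈ P.UL (F.orb (rep (π a))) ↔ f x ∈ P.UL (F.orb (rep a))) → ∀ a, π a = a) (θ : MulAut Γ) :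
    ∃ x, MulAut.conj x * θ ∈ F.Pres f := by
  obtain ⟨x, hU, hV⟩ := E.exists_conj_UV h1 h2 θ
  obtain ⟨π, h3, h4⟩ := E.exists_rep_perm hU hV hrep hinj
  refine ⟨x, mem_Pres.mpr ⟨⟨hU, hV⟩, fun i => ?_⟩⟩
  obtain ⟨a, ha⟩ := hrep i
  have := h4 a
  rwa [h _ π h3 (fun a => (h4 a).1) a, ← orb_eq ha] at this

end Fold.Emb
end
end Cfsg.Agent.Chev
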