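import Mathlib
import Cfsg.Agent.Lib.Tw.OutA
import Cfsg.Agent.Lib.Tw.SL
import Cfsg.Agent.Lib.Chev.AutC

/-! Automorphisms of twisted groups: diagonal and field automorphisms, and the count of outer automorphisms. -/

set_option autoImplicit false
set_option linter.unusedSectionVars false

namespace Cfsg.Agent.ChevM
open Cfsg.Lie Cfsg.Agent.Chev Cfsg.Agent.Chev.RSys Cfsg.Agent.Chev.PreRGD

theorem mul_of_sq' {F : Type*} [Field F] [Finite F] (τ : F →+ F) (h : ∀ t u, τ (t ^ 2 * u) = τ (t ^ 2) * τ u) (t u : F) :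
    τ (t * u) = τ t * τ u := by
  by_cases h0 : (2 : F) = 0
  · have := CharTwo.of_one_ne_zero_of_two_eq_zero one_ne_zero h0
    obtain ⟨t, rfl⟩ := (frobeniusEquiv F 2).surjective t
    exact h t u
  · rw [show t = ((t + 1) / 2) ^ 2 - ((t - 1) / 2) ^ 2 by field_simp; ring, sub_mul, map_sub, map_sub, h, h, sub_mul]

theorem ringHom_comm {F : Type*} [Field F] [Finite F] (φ ψ : F →+* F) (t : F) : φ (ψ t) = ψ (φ t) := by
  have := isCyclic_ringAut F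
  exact DFunLike.congr_fun ((IsCyclic.commGroup (α := RingAut F)).mul_comm
    (RingEquiv.ofBijective φ (Finite.injective_iff_bijective.mp φ.injective))
    (RingEquiv.ofBijective ψ (Finite.injective_iff_bijective.mp ψ.injective))) t

variable {D : ChevalleyDatum} [Tab D] {K : Type*} [Field K]

variable (D) in
/-- The product of a diagonal and a field automorphism. -/
def dfAut (c : Fin D.rank → Kˣ) (τ : RingAut K) : MulAut (D.group K) := dgAut D c * fmAut D K τ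

theorem dfAut_xG (c : Fin D.rank → Kˣ) (τ : RingAut K) (r : Fin D.nroots) (t : K) :
    dfAut D c τ (xG D K r t) = xG D K r (lch D c r * τ t) :=
  (congrArg (dgAut D c) (fmEquiv_xG τ r t)).trans (dgAut_xG c r.2 _)

theorem std_dfAut (c : Fin D.rank → Kˣ) (τ : RingAut K) : Std (dfAut D c τ) 1 c fun _ => τ :=
  ⟨fun i t => by rw [dfAut_xG]; simp, fun i t => by rw [dfAut_xG, rs_neg_val, lch_neg _ (Fin.is_lt _)]; simp⟩

theorem dfAut_mul (c c' : Fin D.rank → Kˣ) (τ τ' : RingAut K) :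
    dfAut D c τ * dfAut D c' τ' = dfAut D (c * fun i => Units.map τ.toMonoidHom (c' i)) (τ * τ') :=
  ((std_dfAut c τ).mul (std_dfAut c' τ')).ext (std_dfAut _ _)

theorem dfAut_one (c : Fin D.rank → Kˣ) : dfAut D c 1 = dgAut D c := by rw [dfAut, map_one, mul_one]

theorem dfAut_mem_US (c : Fin D.rank → Kˣ) (τ : RingAut K) {S : Set (Fin D.nroots)} {g : D.group K} :
    dfAut D c τ g ∈ (PG D K).US S ↔ g ∈ (PG D K).US S := by
  refine ⟨fun h => ?_, fun h => USub_le_iff (K := ((PG D K).US S).comap (dfAut D c τ).toMonoidHom).mpr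
    (fun r hr x hx => ?_) h⟩
  · simpa using USub_le_iff (K := ((PG D K).US S).comap (dfAut D c τ).symm.toMonoidHom).mpr (fun r hr x hx => by
      obtain ⟨t, rfl⟩ := mem_X_iff.mp hx
      have := dfAut_xG c τ r (τ.symm ((lch D c r : K)⁻¹ * t))
      rw [RingEquiv.apply_symm_apply, mul_inv_cancel_left₀ (Units.ne_zero _), ← MulEquiv.eq_symm_apply] at this
      exact show (dfAut D c τ).symm _ ∈ _ from this ▸ xG_mem_US hr _) h
  · obtain ⟨t, rfl⟩ := mem_X_iff.mp hx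
    exact show dfAut D c τ _ ∈ _ from dfAut_xG c τ r t ▸ xG_mem_US hr _

theorem dgAut_fix {c : Fin D.rank → Kˣ} {J : Set (Fin D.rank)} (h : ∀ j ∈ J, c j = 1) {g : D.group K}
    (hg : g ∈ (PG D K).UL J) : dgAut D c g = g :=
  USub_le_iff (K := (dgAut D c).toMonoidHom.eqLocus (MonoidHom.id _)).mpr (fun r hr x hx => by
    obtain ⟨t, rfl⟩ := mem_X_iff.mp hx
    refine (dgAut_xG c r.2 t).trans ?_
    rw [lch, Finset.prod_eq_one fun j _ => ?_]
    · simp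
    · by_cases hj : j ∈ J
      · simp [h j hj]
      · rw [show rc D r j = 0 from hr.2 j hj, zpow_zero]) hg

open Classical in
/-- The coordinate of a unipotent element at a fundamental root. -/
noncomputable def sc (i : Fin D.rank) (g : D.group K) : K :=
  if h : ∃ t, (xG D K ((rs D).simple i : Fin D.nroots) t)⁻¹ * g ∈ (PG D K).UJ {i} then h.choose else 0

variable {i : Fin D.rank} {g g' : D.group K}

theorem sc_eq {t : K} (h : (xG D K ((rs D).simple i : Fin D.nroots) t)⁻¹ * g ∈ (PG D K).UJ {i}) : sc i g = t := by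
  have h1 : ∃ t, (xG D K ((rs D).simple i : Fin D.nroots) t)⁻¹ * g ∈ (PG D K).UJ {i} := ⟨t, h⟩
  rw [sc, dif_pos h1]
  by_contra e
  have h2 := mul_mem h (inv_mem h1.choose_spec)
  rw [mul_inv_rev, inv_inv, mul_assoc, mul_inv_cancel_left, xG_inv, xG_add] at h2
  exact (nondeg D K).X_not_mem_UJ (xG_mem_X _ _) (xG_ne_one _ (by rwa [neg_add_eq_sub, sub_ne_zero])) h2

theorem sc_spec (hg : g ∈ (PG D K).U) :
    (xG D K ((rs D).simple i : Fin D.nroots) (sc i g))⁻¹ * g ∈ (PG D K).UJ {i} := by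
  obtain ⟨v, hv, x, hx, rfl⟩ := (PG D K).exists_UJ_mul_X i hg
  obtain ⟨t, rfl⟩ := mem_X_iff.mp hx
  have := PJ_conj_UJ ((PG D K).B_le_PJ _ ((PG D K).U_le_B (inv_mem (xG_mem_U ((rs D).isPos_simple i) t)))) hv
  rw [inv_inv, mul_assoc] at this
  rwa [sc_eq this]

theorem sc_mul (hg : g ∈ (PG D K).U) (hg' : g' ∈ (PG D K).U) : sc i (g * g') = sc i g + sc i g' := by
  have := mul_mem (PJ_conj_UJ ((PG D K).B_le_PJ _ ((PG D K).U_le_B (inv_mem (xG_mem_U ((rs D).isPos_simple i)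
    (sc i g'))))) (sc_spec (i := i) hg)) (sc_spec (i := i) hg')
  refine sc_eq ?_
  rw [← xG_add]
  simpa [mul_assoc] using this

theorem sc_one : sc i (1 : D.group K) = 0 := sc_eq (by simp [xG_zero])

theorem sc_inv (hg : g ∈ (PG D K).U) : sc i g⁻¹ = -sc i g := by
  rw [eq_neg_iff_add_eq_zero, ← sc_mul (inv_mem hg) hg, inv_mul_cancel, sc_one]

theorem sc_dfAut (c : Fin D.rank → Kˣ) (τ : RingAut K) (hg : g ∈ (PG D K).U) :
    sc i (dfAut D c τ g) = c i * τ (sc i g) := by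
  refine sc_eq ?_
  have := (dfAut_mem_US c τ).mpr (sc_spec (i := i) hg)
  rwa [map_mul, map_inv, (std_dfAut c τ).pos] at this

theorem sc_conj (a : Fin D.rank → Kˣ) (hg : g ∈ (PG D K).U) : sc i (hG D a * g * (hG D a)⁻¹) = cm D a i * sc i g := by
  rw [hG_conj, ← dfAut_one, sc_dfAut _ _ hg]; rfl

end Cfsg.Agent.ChevM

namespace Cfsg.Agent.Chev.IsTw
open Cfsg.Lie RSys PreRGD ChevM
variable {D : ChevalleyDatum} [Tab D] {T : TwData} {K : Type*} [Field K] [Finite K] {φ : K →+* K}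
  {σ : D.group K →* D.group K} (h : IsTw D T (xG D K) φ σ)

/-- The parameters fixed by the twist. -/
noncomputable def A : Subgroup (Fin D.rank → Kˣ) := h.σT.eqLocus (MonoidHom.id _)

theorem mem_A {c : Fin D.rank → Kˣ} : c ∈ h.A ↔ ∀ i, (c (h.tw.νp i) : K) = h.τ (D.simple i) (c i) :=
  ⟨fun e i => by rw [← h.σT_apply, show h.σT c = c from e], fun e => funext fun i => by
    obtain ⟨i, rfl⟩ := h.tw.νp.surjective i
    exact Units.ext ((h.σT_apply c i).trans (e i).symm)⟩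

theorem eq_of_orb {c c' : Fin D.rank → Kˣ} (hc : c ∈ h.A) (hc' : c' ∈ h.A) {i j : Fin D.rank} (e : c i = c' i)
    (hj : j ∈ h.fold.orb i) : c j = c' j :=
  Fold.orb_induction (C := fun j => c j = c' j) e
    (fun j e => Units.ext ((h.mem_A.mp hc j).trans (e ▸ (h.mem_A.mp hc' j).symm))) hj

theorem tor_eq (a : Fin D.rank → Kˣ) : h.chv.rel.tor a = hG D a := torus_xG a

theorem σ_hG (a : Fin D.rank → Kˣ) : σ (hG D a) = hG D (h.σT a) := by rw [← h.tor_eq, h.σ_tor, h.tor_eq]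

theorem cm_σT (a : Fin D.rank → Kˣ) : cm D (h.σT a) = h.σT (cm D a) := funext fun i => by
  obtain ⟨i, rfl⟩ := h.tw.νp.surjective i
  rw [Units.ext_iff, h.σT_apply, ← chi_simple, ← chi_simple, ← h.tw.ρ_simple, h.chi_σT]; rfl

theorem cm_mem_A {a : Fin D.rank → Kˣ} : cm D a ∈ h.A ↔ σ (hG D a) = hG D a := by
  rw [h.σ_hG, ← mul_inv_eq_one, ← map_inv, ← map_mul, ChevM.hG_eq_one_iff, map_mul, map_inv, mul_inv_eq_one, h.cm_σT]
  rfl

theorem σ_hG_of_mem {a : Fin D.rank → Kˣ} (ha : a ∈ h.A) : σ (hG D a) = hG D a := by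
  rw [h.σ_hG, show h.σT a = a from ha]

theorem cm_surj (hA : ∀ a ∈ h.A, cm D a = 1 → a = 1) {c : Fin D.rank → Kˣ} (hc : c ∈ h.A) : ∃ b ∈ h.A, cm D b = c := by
  obtain ⟨b, e⟩ := Finite.surjective_of_injective ((injective_iff_map_eq_one
    (((cm D).comp h.A.subtype).codRestrict h.A fun a => h.cm_mem_A.mpr (h.σ_hG_of_mem a.2))).mpr fun a e =>
      Subtype.ext (hA a a.2 (congrArg Subtype.val e))) ⟨c, hc⟩
  exact ⟨b, b.2, congrArg Subtype.val e⟩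

theorem σ_dfAut {c : Fin D.rank → Kˣ} (hc : c ∈ h.A) (τ : RingAut K) (g : D.group K) :
    σ (dfAut D c τ g) = dfAut D c τ (σ g) := by
  have h1 := fun i t => ringHom_comm (h.τ (D.simple i)) τ.toRingHom t
  refine DFunLike.congr_fun (hom_ext_simple (f := σ.comp (dfAut D c τ).toMonoidHom)
    (g := (dfAut D c τ).toMonoidHom.comp σ) (fun i t => ?_) fun i t => ?_) g
  · change σ (dfAut D c τ _) = dfAut D c τ (σ _)
    rw [(std_dfAut c τ).pos, Equiv.Perm.one_apply, h.σ_x, h.σ_x, h.tw.ρ_simple, (std_dfAut c τ).pos]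
    simpa [h.tw.ε_simple i.2, h.mem_A.mp hc] using congrArg (fun s => xG D K _ (_ * s)) (h1 i t)
  · change σ (dfAut D c τ _) = dfAut D c τ (σ _)
    rw [(std_dfAut c τ).neg, Equiv.Perm.one_apply, h.σ_x_neg, h.σ_x_neg, h.tw.ρ_simple, (std_dfAut c τ).neg]
    simpa [h.tw.ε_simple i.2, h.mem_A.mp hc] using congrArg (fun s => xG D K _ (_ * s)) (h1 i t)

theorem iter_simple (i : Fin D.rank) (k : ℕ) : ∃ ψ : K →+* K,
    (∀ t, σ^[k] (xG D K ((rs D).simple i : Fin D.nroots) t) =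
      xG D K ((rs D).simple ((h.tw.νp ^ k) i) : Fin D.nroots) (ψ t)) ∧
    ∀ v, h.σT^[k] (Pi.mulSingle i v) = Pi.mulSingle ((h.tw.νp ^ k) i) (Units.map ψ.toMonoidHom v) := by
  induction k with
  | zero => exact ⟨RingHom.id K, fun _ => rfl, fun _ => rfl⟩
  | succ k ih =>
    obtain ⟨ψ, h1, h2⟩ := ih
    refine ⟨(h.τ (D.simple ((h.tw.νp ^ k) i))).comp ψ, fun t => ?_, fun v => ?_⟩
    · rw [Function.iterate_succ_apply', h1, h.σ_x, h.tw.ρ_simple, pow_succ', Equiv.Perm.mul_apply]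
      simp [h.tw.ε_simple (Fin.is_lt _)]
    · rw [Function.iterate_succ_apply', h2, h.σT_single, pow_succ', Equiv.Perm.mul_apply]; rfl

theorem dl_mem_A {i : Fin D.rank} {k : ℕ} {v : Kˣ} (h3 : (h.tw.νp ^ k) i = i)
    (hv : σ^[k] (xG D K ((rs D).simple i : Fin D.nroots) v) = xG D K ((rs D).simple i : Fin D.nroots) v) :
    dl h.σT k (Pi.mulSingle i v) ∈ h.A := by
  obtain ⟨ψ', h1, h2⟩ := h.iter_simple i k
  refine fix_dl ?_ (Commute.all _ _)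
  rw [h2, h3]
  rw [h3] at h1
  exact congrArg _ (Units.ext (xG_injective (Fin.is_lt _) ((h1 v).symm.trans hv)))

theorem dl_of_not_mem {i : Fin D.rank} (k : ℕ) (v : Kˣ) {j : Fin D.rank} (hj : j ∉ h.fold.orb i) :
    dl h.σT k (Pi.mulSingle i v) j = 1 :=
  h.dl_single_of_ne i v k fun a _ e => hj ⟨a, by rw [zpow_natCast]; exact e⟩

theorem exists_A_two {i : Fin D.rank} (h1 : T.ν (T.ν i) = i) (h2 : T.ν i ≠ i)
    (h3 : ∀ t, σ^[2] (xG D K ((rs D).simple i : Fin D.nroots) t) = xG D K ((rs D).simple i : Fin D.nroots) t) (v : Kˣ) :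
    ∃ c ∈ h.A, c i = v ∧ ∀ j, j ∉ h.fold.orb i → c j = 1 :=
  ⟨_, h.dl_mem_A (k := 2) (i := i) (Fin.ext h1) (h3 v), by
    rw [dl_two, h.σT_single, Pi.mul_apply, Pi.mulSingle_eq_same, Pi.mulSingle_eq_of_ne fun e => h2 (congrArg Fin.val e).symm,
      mul_one], fun _ => h.dl_of_not_mem 2 v⟩

theorem cm_dl_single {q : ℕ} (hφ : ∀ t, φ t = t ^ q) (i j : Fin D.rank) (k : ℕ) (v : Kˣ) :
    cm D (dl h.σT k (Pi.mulSingle j v)) i = v ^ evQ q (exN D T (List.replicate j 0 ++ [1]) k (D.simple i)) := by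
  rw [← chi_simple, ← rs_simple_val, ← h.chi_dl_cot hφ]
  congr 2
  ext l : 1
  rcases lt_trichotomy (l : ℕ) j with e | e | e
  · simp [cot, List.getElem?_append_left, e, Pi.mulSingle_eq_of_ne (Fin.ne_of_lt e)]
  · simp [cot, Fin.ext e]
  · simp [cot, List.getElem?_eq_none, e, Nat.succ_le_of_lt e, Pi.mulSingle_eq_of_ne (Fin.ne_of_gt e)]

theorem orb_inv (g : ℕ → ℕ) (hg : ∀ i : Fin D.rank, g (T.ν i) = g i) {i j : Fin D.rank} (hj : j ∈ h.fold.orb i) :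
    g j = g i := Fold.orb_induction (C := fun j : Fin D.rank => g j = g i) rfl (fun j e => (hg j).trans e) hj

/-- The relative root subgroup at `i` is parametrized by the fixed field of `ψ`. -/
structure Nd (i : Fin D.rank) (k : ℕ) (ψ : K →+* K) : Prop where
  ok : h.fold.OrbOK ((rs D).simple i) k
  iter : ∀ t, σ^[k] (xG D K ((rs D).simple i : Fin D.nroots) t) = xG D K ((rs D).simple i : Fin D.nroots) (ψ t)

theorem nd_of_per {k : ℕ} (P : Per D T k) (i : Fin D.rank) :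
    h.Nd i (kr T k (D.simple i)) (φ ^ kr T k (D.simple i)) :=
  ⟨h.orbOK P _, fun t => by rw [RingHom.coe_pow]; exact h.iter_kr P ((rs D).simple i) t⟩

variable {Γ : Type*} [Group Γ] {f : Γ →* D.group K} (E : h.fold.Emb f)

namespace Nd
variable {h} {i : Fin D.rank} {k : ℕ} {ψ : K →+* K} (n : h.Nd i k ψ)
include n

theorem fix_iff {t : K} : σ^[k] (xG D K ((rs D).simple i : Fin D.nroots) t) =
    xG D K ((rs D).simple i : Fin D.nroots) t ↔ ψ t = t := by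
  rw [n.iter, (xG_injective (Fin.is_lt _)).eq_iff]

theorem congr {ψ' : K →+* K} (e : ∀ t, ψ t = ψ' t) : h.Nd i k ψ' := ⟨n.ok, fun t => e t ▸ n.iter t⟩

theorem dl_mem_A {v : Kˣ} (hv : ψ v = v) : dl h.σT k (Pi.mulSingle i v) ∈ h.A :=
  h.dl_mem_A ((rs D).simple_inj ((h.fold.ρ_pow_simple k i).symm.trans n.ok.per)) (n.fix_iff.mpr hv)

theorem eq_simple {r : Fin D.nroots} (hr : (rs D).IsPos r ∧ (rs D).InSub (h.fold.orb i) r) :
    ∃ l ∈ h.fold.orb i, r = (rs D).simple l := by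
  obtain ⟨a, -, rfl⟩ := n.ok.pos_eq.le hr
  exact ⟨_, ⟨a, by rw [zpow_natCast]⟩, h.fold.ρ_pow_simple a i⟩

theorem commute {j : Fin D.rank} {k' : ℕ} {ψ' : K →+* K} (n' : h.Nd j k' ψ')
    (hs : ∀ l ∈ h.fold.orb i, ∀ m ∈ h.fold.orb j, soB D (D.simple l) (D.simple m) = true) {a b : D.group K}
    (ha : a ∈ (PG D K).UL (h.fold.orb i)) (hb : b ∈ (PG D K).UL (h.fold.orb j)) : Commute a b := by
  have := comm_mem_of_USub (N := ⊥) Subgroup.le_normalizer_of_normal Subgroup.le_normalizer_of_normal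
    (fun r hr s hs' x hx y hy => by
      obtain ⟨l, hl, rfl⟩ := n.eq_simple hr
      obtain ⟨m, hm, rfl⟩ := n'.eq_simple hs'
      simp [((so_of_soB (hs l hl m hm)).commute _ hx hy).eq]) ha hb
  rwa [Subgroup.mem_bot, mul_inv_eq_one, mul_inv_eq_iff_eq_mul] at this

theorem dl_mem (t : K) : dl σ k (xG D K ((rs D).simple i : Fin D.nroots) t) ∈ (PG D K).UL (h.fold.orb i) :=
  n.ok.UL_eq.ge (n.ok.dl_mem_O (xG_mem_X _ t))

theorem sc_dl (t : K) : sc i (dl σ k (xG D K ((rs D).simple i : Fin D.nroots) t)) = t :=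
  sc_eq (USub_mono (fun r hr => by
    have h1 : (rs D).IsPos r := by obtain ⟨j, -, -, rfl⟩ := hr; exact (h.fold.ρ_pow_pos j _).mpr ((rs D).isPos_simple i)
    exact ⟨h1, fun h2 => (inSub_singleton_iff.mp h2).elim (fun e => n.ok.not_mem (e ▸ hr))
      fun e => not_isPos_neg_simple i (e ▸ h1)⟩)
    (n.ok.inv_mul_dl_mem (xG_mem_X _ t)))

include E

theorem exists_sc {t : K} (ht : ψ t = t) : ∃ x, f x ∈ (PG D K).UL (h.fold.orb i) ∧ sc i (f x) = t := by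
  obtain ⟨x, hx⟩ := E.exists_U ((PG D K).UL_le_U _ (n.dl_mem t)) (h.fix_dl_x n.ok (n.fix_iff.mpr ht))
  exact ⟨x, hx ▸ n.dl_mem t, hx ▸ n.sc_dl t⟩

theorem exists_dl {x : Γ} (hx : f x ∈ (PG D K).UL (h.fold.orb i)) :
    ∃ t, ψ t = t ∧ f x = dl σ k (xG D K ((rs D).simple i : Fin D.nroots) t) := by
  obtain ⟨a, ha, h1, h2⟩ := n.ok.exists_dl E.nd (n.ok.UL_eq.le hx) (E.fix x)
  obtain ⟨t, rfl⟩ := mem_X_iff.mp ha
  exact ⟨t, n.fix_iff.mp h1, h2⟩

theorem fix_sc {x : Γ} (hx : f x ∈ (PG D K).UL (h.fold.orb i)) : ψ (sc i (f x)) = sc i (f x) := by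
  obtain ⟨t, h1, h2⟩ := n.exists_dl E hx
  rwa [h2, n.sc_dl]

theorem eq_of_sc {x y : Γ} (hx : f x ∈ (PG D K).UL (h.fold.orb i)) (hy : f y ∈ (PG D K).UL (h.fold.orb i))
    (e : sc i (f x) = sc i (f y)) : x = y := by
  obtain ⟨t, -, h1⟩ := n.exists_dl E hx
  obtain ⟨u, -, h2⟩ := n.exists_dl E hy
  rw [h1, h2, n.sc_dl, n.sc_dl] at e
  exact E.inj (by rw [h1, h2, e])

theorem sc_eq_zero {x : Γ} (hx : f x ∈ (PG D K).UL (h.fold.orb i)) : sc i (f x) = 0 ↔ x = 1 :=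
  ⟨fun e => n.eq_of_sc E hx (by simp) (by rw [e, map_one, sc_one]), fun e => by rw [e, map_one, sc_one]⟩

theorem not_commute {j : Fin D.rank} (hj : T.ν j = j) (hC : ∀ l ∈ h.fold.orb i, l ≠ j ∧ (rs D).C j l ≠ 0) :
    ¬ ∀ x y, f x ∈ (PG D K).UL (h.fold.orb i) → f y ∈ (PG D K).UL (h.fold.orb j) → Commute x y := by
  have h1 : ∀ l ∈ h.fold.orb j, l = j := fun l hl => Fold.orb_induction (C := (· = j)) rfl
    (fun l e => by subst e; exact Fin.ext hj) hl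
  have h2 : j ∉ h.fold.orb i := fun e => (hC j e).1 rfl
  refine E.not_commute_UL (fun e => h2 (e ▸ Fold.mem_orb_self j)) fun r hr hr' e => ?_
  obtain ⟨l, hl, rfl⟩ := n.eq_simple ⟨hr, hr'⟩
  have := e j h2
  rw [Fold.s, ← eq_w0J ((rs D).sref_mem_WJ (Fold.mem_orb_self j)) fun l hl => by
    rw [h1 l hl, sref_simple]; exact not_isPos_neg_simple j, rc_sref, pair_simple_simple, RSys.rc_simple] at this
  simp [Pi.single_eq_of_ne (hC l hl).1.symm, (hC l hl).2] at this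

theorem fix_of_map {j : Fin D.rank} {k' : ℕ} (n' : h.Nd j k' (RingHom.id K)) {θ : MulAut Γ}
    (hθ : ∀ x, f x ∈ (PG D K).UL (h.fold.orb j) → f (θ x) ∈ (PG D K).UL (h.fold.orb i)) (t : K) : ψ t = t := by
  choose y h1 h2 using fun t => n'.exists_sc E (t := t) rfl
  obtain ⟨s, rfl⟩ := Finite.surjective_of_injective (f := fun t => sc i (f (θ (y t)))) (fun s t e => by
    rw [← h2 s, θ.injective (n.eq_of_sc E (hθ _ (h1 s)) (hθ _ (h1 t)) e), h2]) t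
  exact n.fix_sc E (hθ _ (h1 s))

theorem fix_tor {θ : MulAut Γ} (hθ : θ ∈ h.fold.Pres f) (h1 : θ ∈ FixP f ((PG D K).UL (h.fold.orb i))) {v : Kˣ}
    (hv : ψ v = v) : ∃ g, θ g = g ∧ f g = hG D (dl h.σT k (Pi.mulSingle i v)) := by
  have h2 : ∀ t, ψ t = t → dl σ k (xG D K ((rs D).simple i : Fin D.nroots) t) ∈
      (θ.toMonoidHom.eqLocus (MonoidHom.id Γ)).map f := fun t ht => by
    obtain ⟨x, hx⟩ := E.exists_U ((PG D K).UL_le_U _ (n.dl_mem t)) (h.fix_dl_x n.ok (n.fix_iff.mpr ht))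
    exact ⟨x, h1 x (hx ▸ n.dl_mem t), hx⟩
  have h3 : ∀ t, ψ t = t → dl σ k (xG D K ((rs D).neg ((rs D).simple i) : Fin D.nroots) t) ∈
      (θ.toMonoidHom.eqLocus (MonoidHom.id Γ)).map f := fun t ht => by
    have h4 := n.ok.VL_eq.ge (n.ok.neg.dl_mem_O (xG_mem_X _ t))
    obtain ⟨x, hx⟩ := E.exists_V (VL_le_V _ h4)
      (h.fix_dl_x n.ok.neg ((h.iter_neg_iff n.ok.per t).mpr (n.fix_iff.mpr ht)))
    exact ⟨x, E.fixP_VL hθ h1 x (hx ▸ h4), hx⟩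
  rw [← h.tor_eq, ← h.dl_tor, StRel.torus_single]
  change ∃ g, _ ∧ f g = dl σ k (hElt D (xG D K) ((rs D).simple i : Fin D.nroots) v)
  rw [← h.sl2h_dl n.ok]
  exact mul_mem (mul_mem (mul_mem (h2 _ hv) (h3 _ (by simp [hv]))) (h2 _ hv))
    (inv_mem (mul_mem (mul_mem (h2 _ (map_one _)) (h3 _ (by simp))) (h2 _ (map_one _))))

end Nd

variable (f) in
/-- The automorphisms induced by diagonal and field automorphisms. -/
def IndS : Submonoid (MulAut Γ) where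
  carrier := {θ | ∃ c ∈ h.A, ∃ τ, ∀ g, f (θ g) = dfAut D c τ (f g)}
  one_mem' := ⟨1, one_mem _, 1, fun g => by simp [dfAut]⟩
  mul_mem' := by
    rintro θ θ' ⟨c, hc, τ, e⟩ ⟨c', hc', τ', e'⟩
    refine ⟨_, mul_mem hc (h.mem_A.mpr fun i => ?_), _, fun g => by
      rw [MulAut.mul_apply, e, e', ← MulAut.mul_apply, dfAut_mul]⟩
    exact (congrArg τ (h.mem_A.mp hc' i)).trans (ringHom_comm τ.toRingHom _ _)

omit [Finite K] in
theorem keep_of_ind {θ : MulAut Γ} {c : Fin D.rank → Kˣ} {τ : RingAut K} (e : ∀ g, f (θ g) = dfAut D c τ (f g))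
    (S : Set (Fin D.nroots)) : θ ∈ Keep f ((PG D K).US S) := fun x => by rw [e, dfAut_mem_US]

theorem pres_of_indS {θ : MulAut Γ} (hθ : θ ∈ h.IndS f) : θ ∈ h.fold.Pres f := by
  obtain ⟨c, -, τ, e⟩ := hθ
  exact Fold.mem_Pres.mpr ⟨⟨keep_of_ind e _, keep_of_ind e _⟩, fun i => ⟨keep_of_ind e _, keep_of_ind e _⟩⟩

variable (hfix : ∀ g, σ g = g → g ∈ f.range)
include E hfix

theorem exists_res {Θ : MulAut (D.group K)} (hΘ : ∀ g, σ (Θ g) = Θ (σ g)) : ∃ θ : MulAut Γ, ∀ g, f (θ g) = Θ (f g) := by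
  choose a ha using fun g => hfix (Θ (f g)) (by rw [hΘ]; exact congrArg Θ (E.fix g))
  choose b hb using fun g => hfix (Θ.symm (f g)) (Θ.injective (by rw [← hΘ]; simpa using E.fix g))
  exact ⟨⟨⟨a, b, fun g => E.inj (by simp [ha, hb]), fun g => E.inj (by simp [ha, hb])⟩,
    fun g g' => E.inj (by simp [ha])⟩, ha⟩

theorem exists_ind {c : Fin D.rank → Kˣ} (hc : c ∈ h.A) (τ : RingAut K) :
    ∃ θ : MulAut Γ, ∀ g, f (θ g) = dfAut D c τ (f g) := h.exists_res E hfix (h.σ_dfAut hc τ)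

theorem exists_hG {a : Fin D.rank → Kˣ} (ha : a ∈ h.A) : ∃ g, f g = hG D a := hfix _ (h.σ_hG_of_mem ha)

variable {θ : MulAut Γ} (hθ : θ ∈ h.fold.Pres f) {i : Fin D.rank}
include hθ

omit hfix in
theorem exists_aut_hG {g : Γ} {a : Fin D.rank → Kˣ} (e : f g = hG D a) : ∃ b, f (θ g) = hG D b :=
  (mem_H_iff.mp (E.aut_mem_H (Fold.mem_Pres.mp hθ).1.1 (Fold.mem_Pres.mp hθ).1.2 (e ▸ hG_mem_H a))).imp fun _ => Eq.symm

theorem exists_first (h1 : ∀ t, ∃ x, f x ∈ (PG D K).UL (h.fold.orb i) ∧ sc i (f x) = t)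
    (h2 : ∀ x, f x ∈ (PG D K).UL (h.fold.orb i) → (sc i (f (θ x)) = 0 ↔ sc i (f x) = 0))
    (h3 : ∀ v : Kˣ, ∃ a ∈ h.A, cm D a i = v ^ 2) (h4 : ∀ v : Kˣ, ∃ c ∈ h.A, c i = v) :
    ∃ s ∈ h.IndS f, ∀ x, f x ∈ (PG D K).UL (h.fold.orb i) → sc i (f ((s⁻¹ * θ) x)) = sc i (f x) := by
  have hU : ∀ {x}, f x ∈ (PG D K).UL (h.fold.orb i) → f (θ x) ∈ (PG D K).U := fun hx =>
    ((Fold.mem_Pres.mp hθ).1.1 _).mpr ((PG D K).UL_le_U _ hx)
  have hl : ∀ {x}, x ∈ (PG D K).UL (h.fold.orb i) → x ∈ (PG D K).U := fun hx => (PG D K).UL_le_U _ hx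
  choose y hy1 hy2 using h1
  have a1 : ∀ x, f x ∈ (PG D K).UL (h.fold.orb i) → sc i (f (θ x)) = sc i (f (θ (y (sc i (f x))))) := fun x hx => by
    have := (h2 ((y (sc i (f x)))⁻¹ * x) (by simpa using mul_mem (inv_mem (hy1 _)) hx)).mpr (by
      rw [map_mul, map_inv, sc_mul (inv_mem (hl (hy1 _))) (hl hx), sc_inv (hl (hy1 _)), hy2, neg_add_cancel])
    rwa [map_mul, map_mul, map_inv, map_inv, sc_mul (inv_mem (hU (hy1 _))) (hU hx), sc_inv (hU (hy1 _)),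
      neg_add_eq_zero, eq_comm] at this
  let ψ : K →+ K := AddMonoidHom.mk' (fun t => sc i (f (θ (y t)))) fun s t => by
    rw [← sc_mul (hU (hy1 s)) (hU (hy1 t)), ← map_mul, ← map_mul, a1 (y s * y t) (by simpa using mul_mem (hy1 s) (hy1 t)),
      map_mul, sc_mul (hl (hy1 s)) (hl (hy1 t)), hy2, hy2]
  have a2 : ∀ t, ψ t = 0 → t = 0 := fun t ht => by rw [← hy2 t, ← h2 _ (hy1 t)]; exact ht
  have a3 : ψ 1 ≠ 0 := fun e => one_ne_zero (a2 1 e)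
  have a4 : ∀ v : Kˣ, ∃ l, ∀ t, ψ (v ^ 2 * t) = l * ψ t := fun v => by
    obtain ⟨a, ha, e⟩ := h3 v
    obtain ⟨g, hg⟩ := h.exists_hG E hfix ha
    obtain ⟨b, hb⟩ := h.exists_aut_hG E hθ hg
    refine ⟨cm D b i, fun t => ?_⟩
    have := a1 (g * y t * g⁻¹) (by simpa [hg, UL] using (PG D K).H_conj_US (hG_mem_H a) (hy1 t))
    simp only [map_mul, map_inv, hg, hb, sc_conj _ (hl (hy1 t)), sc_conj _ (hU (hy1 t)), hy2, e] at this
    exact this.symm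
  let τ₀ : K →+ K := (AddMonoidHom.mulLeft (ψ 1)⁻¹).comp ψ
  have a5 : ∀ t, ψ t = ψ 1 * τ₀ t := fun t => (mul_inv_cancel_left₀ a3 _).symm
  have a6 : τ₀ 1 = 1 := inv_mul_cancel₀ a3
  have a7 := mul_of_sq' τ₀ fun t u => by
    by_cases ht : t = 0
    · simp [ht]
    obtain ⟨l, hl⟩ := a4 (Units.mk0 t ht)
    simp only [Units.val_mk0] at hl
    exact mul_left_cancel₀ a3 (by rw [← a5, ← mul_assoc, ← a5, hl u, ← mul_one (t ^ 2), hl 1, a5 u]; ring)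
  let τ₁ : K →+* K := { τ₀ with map_one' := a6, map_mul' := a7 }
  obtain ⟨c, hc, e⟩ := h4 (Units.mk0 _ a3)
  obtain ⟨s, hs⟩ := h.exists_ind E hfix hc (RingEquiv.ofBijective τ₁ (Finite.injective_iff_bijective.mp τ₁.injective))
  refine ⟨s, ⟨c, hc, _, hs⟩, fun x hx => τ₁.injective (mul_left_cancel₀ a3 ?_)⟩
  have b1 : f ((s⁻¹ * θ) x) ∈ (PG D K).U := (keep_of_ind hs {r | (rs D).IsPos r} _).mp (by simpa [U] using hU hx)
  have b2 := sc_dfAut (i := i) c (RingEquiv.ofBijective τ₁ (Finite.injective_iff_bijective.mp τ₁.injective)) b1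
  rw [← hs, e] at b2
  rw [MulAut.mul_apply, MulAut.apply_inv_self] at b2
  exact b2.symm.trans ((a1 x hx).trans (a5 _))

theorem exists_next {k : ℕ} {ψ : K →+* K} (n : h.Nd i k ψ)
    (h1 : ∀ t : Kˣ, ψ t = t → ∃ g a, θ g = g ∧ f g = hG D a ∧ cm D a i = t) :
    ∃ s ∈ h.IndS f, s⁻¹ * θ ∈ FixP f ((PG D K).UL (h.fold.orb i)) ∧
      ∀ j, i ∉ h.fold.orb j → s ∈ FixP f ((PG D K).UL (h.fold.orb j)) := by
  have hU := ((Fold.mem_Pres.mp hθ).2 i).1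
  have hl : ∀ {x}, x ∈ (PG D K).UL (h.fold.orb i) → x ∈ (PG D K).U := fun hx => (PG D K).UL_le_U _ hx
  obtain ⟨y, hy1, hy2⟩ := n.exists_sc E (map_one ψ)
  have a1 : sc i (f (θ y)) ≠ 0 := fun e => one_ne_zero (by
    rw [← hy2, (map_eq_one_iff θ θ.injective).mp ((n.sc_eq_zero E ((hU y).mpr hy1)).mp e), map_one, sc_one])
  have hc := n.dl_mem_A (v := Units.mk0 _ a1) (n.fix_sc E ((hU y).mpr hy1))
  obtain ⟨s, hs⟩ := h.exists_ind E hfix hc 1
  refine ⟨s, ⟨_, hc, _, hs⟩, fun x hx => ?_, fun j hj x hx => E.inj (by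
    rw [hs, dfAut_one, dgAut_fix (fun l hl => h.dl_of_not_mem _ _ fun hl' => hj ?_) hx]
    rw [← Fold.orb_eq hl, Fold.orb_eq hl']; exact Fold.mem_orb_self i)⟩
  by_cases h0 : x = 1
  · simp [h0]
  obtain ⟨g, a, e1, e2, e3⟩ := h1 (Units.mk0 _ (mt (n.sc_eq_zero E hx).mp h0)) (n.fix_sc E hx)
  rw [MulAut.mul_apply, MulAut.inv_apply, MulEquiv.symm_apply_eq]
  refine n.eq_of_sc E ((hU x).mpr hx) ((keep_of_ind hs _ x).mpr hx) ?_
  rw [hs, sc_dfAut _ _ (hl hx), h.dl_single_self n.ok, n.eq_of_sc E (y := g * y * g⁻¹) hx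
    (by simpa [e2, UL] using (PG D K).H_conj_US (hG_mem_H a) hy1) (by simp [e2, sc_conj _ (hl hy1), e3, hy2])]
  simp [e1, e2, sc_conj _ (hl hy1), sc_conj _ (hl ((hU y).mpr hy1)), hy2, mul_comm]

theorem indS_of_first {k : ℕ} (n : h.Nd i k (RingHom.id K)) (h3 : ∀ v, cm D (dl h.σT k (Pi.mulSingle i v)) i = v ^ 2)
    (H : ∀ θ ∈ h.fold.Pres f, θ ∈ FixP f ((PG D K).UL (h.fold.orb i)) → θ ∈ h.IndS f) : θ ∈ h.IndS f := by
  have hU := fun {θ} (hθ : θ ∈ h.fold.Pres f) => ((Fold.mem_Pres.mp hθ).2 i).1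
  obtain ⟨s, hs, h1⟩ := h.exists_first E hfix hθ (fun t => n.exists_sc E rfl) (fun x hx => by
    rw [n.sc_eq_zero E hx, n.sc_eq_zero E ((hU hθ x).mpr hx), map_eq_one_iff θ θ.injective])
    (fun v => ⟨_, n.dl_mem_A rfl, h3 v⟩) fun v => ⟨_, n.dl_mem_A rfl, h.dl_single_self n.ok v⟩
  have h2 := mul_mem (inv_mem (h.pres_of_indS hs)) hθ
  simpa using mul_mem hs (H _ h2 fun x hx => n.eq_of_sc E ((hU h2 x).mpr hx) hx (h1 x hx))

theorem indS_of_next {k k' : ℕ} {ψ ψ' : K →+* K} {j : Fin D.rank} (n : h.Nd i k ψ) (n' : h.Nd j k' ψ')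
    (hj : θ ∈ FixP f ((PG D K).UL (h.fold.orb j)))
    (h1 : ∀ t : Kˣ, ψ t = t → ∃ v : Kˣ, ψ' v = v ∧ cm D (dl h.σT k' (Pi.mulSingle j v)) i = t)
    (H : ∀ θ' ∈ h.fold.Pres f, θ' ∈ FixP f ((PG D K).UL (h.fold.orb i)) → (∀ j, i ∉ h.fold.orb j →
      θ ∈ FixP f ((PG D K).UL (h.fold.orb j)) → θ' ∈ FixP f ((PG D K).UL (h.fold.orb j))) → θ' ∈ h.IndS f) :
    θ ∈ h.IndS f := by
  obtain ⟨s, hs, h2, h3⟩ := h.exists_next E hfix hθ n fun t ht => by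
    obtain ⟨v, hv, e⟩ := h1 t ht
    obtain ⟨g, e1, e2⟩ := n'.fix_tor E hθ hj hv
    exact ⟨g, _, e1, e2, e⟩
  simpa using mul_mem hs (H _ (mul_mem (inv_mem (h.pres_of_indS hs)) hθ) h2 fun j hj e => mul_mem (inv_mem (h3 j hj)) e)

omit hfix in
theorem fix_of_sc (hi : ∀ j, j ∈ h.fold.orb i) {x : Γ} (hx : f x ∈ (PG D K).U) (h1 : sc i (f x) = 1)
    (h2 : ∀ x, f x ∈ (PG D K).U → sc i (f (θ x)) = sc i (f x)) {g : Γ} {a : Fin D.rank → Kˣ} (e : f g = hG D a) :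
    θ g = g := by
  obtain ⟨b, hb⟩ := h.exists_aut_hG E hθ e
  have h3 := h2 (g * x * g⁻¹) (by simpa [e, U] using (PG D K).H_conj_US (hG_mem_H a) hx)
  simp only [map_mul, map_inv, e, hb, sc_conj _ hx, sc_conj _ (((Fold.mem_Pres.mp hθ).1.1 x).mpr hx), h2 x hx, h1,
    mul_one, Units.val_inj] at h3
  refine E.inj ?_
  rw [hb, e, ← mul_inv_eq_one, ← map_inv, ← map_mul, ChevM.hG_eq_one_iff, map_mul, map_inv, mul_inv_eq_one]
  exact funext fun j => h.eq_of_orb (h.cm_mem_A.mpr (hb ▸ E.fix (θ g) : σ (hG D b) = hG D b))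
    (h.cm_mem_A.mpr (e ▸ E.fix g : σ (hG D a) = hG D a)) h3 (hi j)

omit hθ

omit hfix in
theorem exists_indS (hf : f.range ≤ h.fold.gen) {A : Type*} {rep : A → Fin D.rank}
    (hrep : ∀ i, ∃ a, i ∈ h.fold.orb (rep a)) (hinj : ∀ a b, rep a ∈ h.fold.orb (rep b) → a = b)
    (h1 : ∀ (θ : MulAut Γ) (π : A → A), Function.Injective π → (∀ a x, f (θ x) ∈ (PG D K).UL (h.fold.orb (rep (π a))) ↔
      f x ∈ (PG D K).UL (h.fold.orb (rep a))) → ∀ a, π a = a) (h2 : ∀ θ ∈ h.fold.Pres f, θ ∈ h.IndS f) (θ : MulAut Γ) :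
    ∃ x, MulAut.conj x * θ ∈ h.IndS f := by
  have := ringChar.charP K
  have : Fact (ringChar K).Prime := ⟨CharP.char_is_prime K _⟩
  have := h.finite_of_emb ChevM.GS_xG E
  have a1 := h.isPGroup_U E (ringChar K) rep
  have a2 := SBN.coprime_index (E.sbn_full hrep hf) a1 fun g => h.eq_one_of_isPElt E _ rep
  exact (E.exists_pres (p := ringChar K) a1 a2 hrep hinj h1 θ).imp fun x hx => h2 _ hx

theorem card_Out (hS : ∀ θ : MulAut Γ, ∃ x, MulAut.conj x * θ ∈ h.IndS f)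
    (hA : ∀ a, cm D a ∈ h.A → ∃ b ∈ h.A, cm D b = cm D a) (h1 : ∀ t, ∃ x, f x ∈ (PG D K).U ∧ sc i (f x) = t)
    (h2 : ∀ j, ∃ l, j ∈ h.fold.orb l ∧ ∃ x, f x ∈ (PG D K).U ∧ sc l (f x) = 1) :
    Nat.card (Out Γ) = Nat.card ((cm D).ker ⊓ h.A : Subgroup _) * Nat.card (K ≃+* K) := by
  let m : h.A →* h.A := ((cm D).comp h.A.subtype).codRestrict h.A fun a => h.cm_mem_A.mpr (h.σ_hG_of_mem a.2)
  have a1 : Nat.card ((cm D).ker ⊓ h.A : Subgroup _) = Nat.card m.ker := Nat.card_congr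
    ⟨fun a => ⟨⟨a.1, a.2.2⟩, Subtype.ext a.2.1⟩, fun a => ⟨a.1.1, congrArg Subtype.val a.2, a.1.2⟩, fun _ => rfl,
      fun _ => rfl⟩
  choose r hr using fun (c : h.A) τ => h.exists_ind E hfix c.2 τ
  rw [a1, ← Subgroup.index_range, Subgroup.index, ← Nat.card_prod]
  refine (Nat.card_eq_of_bijective (fun p => QuotientGroup.mk (r p.1.out p.2)) ⟨?_, fun θ => ?_⟩).symm
  · rintro ⟨c, τ⟩ ⟨c', τ'⟩ e
    obtain ⟨x, hx⟩ := QuotientGroup.eq_iff_div_mem.mp e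
    rw [eq_div_iff_mul_eq'] at hx
    obtain ⟨a, ha⟩ := mem_H_iff.mp (E.mem_H_of_conj (g := x) (fun u hu => by
      obtain ⟨u, rfl⟩ := (r c'.out τ').surjective u
      rw [← MulAut.conj_apply, ← MulAut.mul_apply, hx]
      exact (keep_of_ind (hr _ _) _ u).mpr ((keep_of_ind (hr _ _) _ u).mp hu)) fun u hu => by
      obtain ⟨u, rfl⟩ := (r c'.out τ').surjective u
      rw [← MulAut.conj_apply, ← MulAut.mul_apply, hx]
      exact (keep_of_ind (hr _ _) _ u).mpr ((keep_of_ind (hr _ _) _ u).mp hu))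
    have a2 : ∀ l y, f y ∈ (PG D K).U → (c.out.1 l : K) * τ (sc l (f y)) = cm D a l * (c'.out.1 l * τ' (sc l (f y))) :=
      fun l y hy => by
        rw [← sc_dfAut _ _ hy, ← hr, ← hx, MulAut.mul_apply, MulAut.conj_apply, map_mul, map_mul, map_inv, ← ha, hr,
          sc_conj _ ((dfAut_mem_US _ _).mpr hy), sc_dfAut _ _ hy]
    have a3 := h.cm_mem_A.mpr (ha ▸ E.fix x : σ (hG D a) = hG D a)
    have a4 : c.out.1 = cm D a * c'.out.1 := funext fun j => by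
      obtain ⟨l, hl, y, hy, e⟩ := h2 j
      exact h.eq_of_orb c.out.2 (mul_mem a3 c'.out.2) (Units.ext (by simpa [e] using a2 l y hy)) hl
    obtain ⟨b, hb, e⟩ := hA a a3
    refine Prod.ext ?_ (RingEquiv.ext fun t => ?_)
    · rw [← c.out_eq, ← c'.out_eq]
      exact QuotientGroup.eq_iff_div_mem.mpr ⟨⟨b, hb⟩, Subtype.ext (e.trans (eq_div_iff_mul_eq'.mpr a4.symm))⟩
    · obtain ⟨y, hy, rfl⟩ := h1 t
      simpa [a4, mul_assoc] using a2 i y hy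
  · obtain ⟨θ, rfl⟩ := QuotientGroup.mk_surjective θ
    obtain ⟨x, c, hc, τ, e⟩ := hS θ
    obtain ⟨⟨_, a, rfl⟩, e1⟩ := QuotientGroup.mk_out_eq_mul m.range ⟨c, hc⟩
    obtain ⟨g, hg⟩ := h.exists_hG E hfix a.2
    refine ⟨⟨QuotientGroup.mk ⟨c, hc⟩, τ⟩, QuotientGroup.eq_iff_div_mem.mpr ⟨g * x, ?_⟩⟩
    rw [eq_div_iff_mul_eq', map_mul, mul_assoc]
    ext y
    refine E.inj ?_
    rw [hr, e1, MulAut.mul_apply, MulAut.conj_apply, map_mul, map_mul, map_inv, e, hg, hG_conj, ← dfAut_one,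
      ← MulAut.mul_apply, dfAut_mul, mul_comm (cm D a.1), one_mul]
    rfl

theorem card_Out_of_inj (hS : ∀ θ : MulAut Γ, ∃ x, MulAut.conj x * θ ∈ h.IndS f)
    (hA : ∀ a ∈ h.A, cm D a = 1 → a = 1) (h1 : ∀ t, ∃ x, f x ∈ (PG D K).U ∧ sc i (f x) = t)
    (h2 : ∀ j, ∃ l, j ∈ h.fold.orb l ∧ ∃ x, f x ∈ (PG D K).U ∧ sc l (f x) = 1) :
    Nat.card (Out Γ) = Nat.card (K ≃+* K) := by
  rw [h.card_Out E hfix hS (fun a => h.cm_surj hA) h1 h2, 
    (Subgroup.eq_bot_iff_forall ((cm D).ker ⊓ h.A)).mpr fun a ha => hA a ha.2 ha.1, Subgroup.card_bot, one_mul]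

end Cfsg.Agent.Chev.IsTw
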