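import Mathlib
import Cfsg.Agent.Lib.Tw.OutB
import Cfsg.Agent.Lib.Tw.InstF4

/-! The outer automorphism groups of `³D₄(q)` and `²E₆(q)`. -/

set_option autoImplicit false
set_option linter.unusedSectionVars false

namespace Cfsg.Agent.Chev
open Cfsg.Lie RSys PreRGD ChevM
variable {K : Type*} [Field K] [Fintype K] {φ : K →+* K} {q : ℕ}

theorem exists_pow_ne_self (h1 : 1 < q) (h2 : q < Fintype.card K) : ∃ t : K, t ^ q ≠ t := by
  obtain ⟨t, ht⟩ := exists_zpow_ne_one (K := K) (n := (q - 1 : ℕ)) fun h => by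
    have := Int.le_of_dvd (by omega) h
    rw [Nat.card_eq_fintype_card] at this
    omega
  refine ⟨t, fun e => ht (Units.ext (mul_right_cancel₀ t.ne_zero ?_))⟩
  rwa [zpow_natCast, Units.val_pow_eq_pow_val, ← pow_succ, Nat.sub_add_cancel h1.le, Units.val_one, one_mul]

theorem exists_norm_eq {n : ℕ} (hK : Fintype.card K + n = q * n + 1) {t : Kˣ} (ht : (t : K) ^ q = t) :
    ∃ v : Kˣ, v ^ n = t := by
  obtain ⟨g, hg⟩ := IsCyclic.exists_monoid_generator (α := Kˣ)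
  obtain ⟨j, rfl⟩ := hg t
  obtain ⟨q, rfl⟩ : ∃ r, q = r + 1 := ⟨q - 1, by
    have := Fintype.one_lt_card (α := K)
    rcases q with _ | q <;> omega⟩
  have h1 : orderOf g = q * n := by
    rw [orderOf_eq_card_of_forall_mem_powers hg, Nat.card_units, Nat.card_eq_fintype_card]
    rw [add_mul] at hK
    omega
  have h2 : (g ^ j) ^ q = 1 := Units.ext (mul_right_cancel₀ (g ^ j).ne_zero (by simpa [pow_succ] using ht))
  rw [← pow_mul, ← orderOf_dvd_iff_pow_eq_one, h1, mul_comm j] at h2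
  obtain ⟨m, rfl⟩ := Nat.dvd_of_mul_dvd_mul_left (Nat.pos_of_mul_pos_right (h1 ▸ orderOf_pos g)) h2
  exact ⟨g ^ m, by rw [← pow_mul, mul_comm]⟩

theorem cm_val {D : ChevalleyDatum} [Tab D] (a : Fin D.rank → Kˣ) (j : Fin D.rank) :
    (cm D a j : K) = ∏ i, (a i : K) ^ D.cartan i (D.simple j) := by simp [cm_apply, rs_C]

variable (hφ : ∀ t, φ t = t ^ q) (hq : 1 < q) {Γ : Type*} [Group Γ]
include hφ hq

theorem IsTw.card_Out_D4 {σ : chevD4.group K →* chevD4.group K} (h : IsTw chevD4 twD4a (xG chevD4 K) φ σ)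
    (hφk : ∀ t, φ^[3] t = t) (hK : Fintype.card K = q ^ 3) {f : Γ →* chevD4.group K} (E : h.fold.Emb f)
    (hfix : ∀ g, σ g = g → g ∈ f.range) (hf : f.range ≤ h.fold.gen) : Nat.card (Out Γ) = Nat.card (K ≃+* K) := by
  have n0 : h.Nd (repD4 0) 3 (RingHom.id K) := (h.nd_of_per per_D4 (repD4 0)).congr hφk
  have n1 : h.Nd (repD4 1) 1 φ := (h.nd_of_per per_D4 (repD4 1)).congr fun _ => rfl
  have hinj : ∀ a b, repD4 a ∈ h.fold.orb (repD4 b) → a = b := fun a b e => by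
    have := h.orb_inv (fun i => if i = 1 then 1 else 0) (by decide +kernel) e
    clear e; revert a b; decide
  refine h.card_Out_of_inj E hfix (i := repD4 0) (h.exists_indS E hf h.hrep_D4 hinj (fun θ π h1 h2 => ?_) fun θ hθ => ?_)
    (fun a ha e => ?_) (fun t => (n0.exists_sc E rfl).imp fun x hx => ⟨UL_le_U _ _ hx.1, hx.2⟩) fun j => ?_
  · obtain ⟨t, ht⟩ := exists_pow_ne_self (K := K) hq (hK ▸ lt_self_pow₀ hq (by norm_num))
    have h3 : π 0 ≠ 1 := fun e => ht (hφ t ▸ n1.fix_of_map E n0 (fun x hx => e ▸ (h2 0 x).mpr hx) t)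
    clear h2; revert π; decide
  · refine h.indS_of_first E hfix hθ n0 (fun v => by rw [h.cm_dl_single hφ]; rfl) fun θ hθ h0 =>
      h.indS_of_next E hfix hθ n1 n0 h0 (fun t ht => ?_) fun θ hθ h1 h2 => ?_
    · obtain ⟨v, hv⟩ := exists_norm_eq (n := 1 + q + q * q) (by rw [hK]; ring) (hφ t ▸ ht)
      refine ⟨v⁻¹, rfl, ?_⟩
      rw [h.cm_dl_single hφ, ← hv, show exN chevD4 twD4a _ 3 _ = [-1, -1, -1] by decide +kernel, inv_zpow', ← zpow_natCast]
      congr 1; simp [evQ]; ring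
    · rw [E.aut_eq_one hf h.hrep_D4 hθ (Fin.forall_fin_two.mpr ⟨h2 _ (fun e => absurd (hinj _ _ e) (by decide)) h0, h1⟩)]
      exact one_mem _
  · have hC : ∀ i j : Fin 4, chevD4.cartan i (chevD4.simple j) =
        ![![2, -1, 0, 0], ![-1, 2, -1, -1], ![0, -1, 2, 0], ![0, -1, 0, 2]] i j := by decide +kernel
    obtain ⟨b, hb⟩ : ∃ b : Fin 4 → K, ∀ i, b i = a i := ⟨_, fun _ => rfl⟩
    have h1 : ∀ j : Fin 4, ∏ i : Fin 4, b i ^ chevD4.cartan i (chevD4.simple j) = 1 := fun j => by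
      simp only [hb]; exact (cm_val a j).symm.trans (congrArg Units.val (congrFun e j))
    have h2 : ∀ i j : Fin 4, twD4a.ν i = j → b j = φ (b i) := fun i j e => by
      rw [hb, hb, ← h.τ_eq per_D4]
      exact (congrArg (fun l => (a l : K)) (Fin.ext e.symm)).trans (h.mem_A.mp ha i)
    have h3 := h1 0
    have h4 := h1 1
    have h5 := h1 2
    have h8 : b 0 ≠ 0 := hb 0 ▸ Units.ne_zero _
    simp only [hC, Fin.prod_univ_four, h2 0 2 rfl, h2 2 3 rfl] at h3 h4 h5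
    simp [mul_inv_eq_one₀, inv_mul_eq_one₀, zpow_ofNat, hb 1 ▸ Units.ne_zero (a (1 : Fin 4)), h8] at h3 h4 h5
    rw [← h3] at h4 h5
    have h7 : b 0 = 1 := by
      rcases sq_eq_sq_iff_eq_or_eq_neg.mp h5.symm with e | e <;> simp only [e, map_neg, neg_neg] at h4 <;> field_simp at h4
      · exact h4
      · simpa [show b 0 = -1 by linear_combination -h4, CharTwo.neg_eq] using e
    refine funext fun i : Fin 4 => Units.ext ((hb i).symm.trans (?_ : b i = 1))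
    fin_cases i <;> simp [h7, ← h3, h2 0 2 rfl, h2 2 3 rfl]
  · obtain ⟨a, ha⟩ := h.hrep_D4 j
    obtain ⟨x, h1, h2⟩ := (h.nd_of_per per_D4 (repD4 a)).exists_sc E (map_one _)
    exact ⟨_, ha, x, UL_le_U _ _ h1, h2⟩

theorem IsTw.card_ker_E6 {σ : chevE6.group K →* chevE6.group K} (h : IsTw chevE6 twE6 (xG chevE6 K) φ σ)
    (hK : Fintype.card K = q ^ 2) : Nat.card ((cm chevE6).ker ⊓ h.A : Subgroup _) = Nat.gcd 3 (q + 1) := by
  have h1 : Nat.gcd (Nat.gcd 3 (q + 1)) (Fintype.card K - 1) = Nat.gcd 3 (q + 1) :=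
    Nat.gcd_eq_left ((Nat.gcd_dvd_right _ _).trans ⟨q - 1, by rw [hK, ← Nat.sq_sub_sq, one_pow]⟩)
  have h2 : ∀ w : (powMonoidHom (Nat.gcd 3 (q + 1)) : Kˣ →* Kˣ).ker, w.1 ^ 3 = 1 ∧ w.1 ^ (q + 1) = 1 := fun w =>
    pow_gcd_eq_one.mp w.2
  have h5 : ∀ w, centerHom chevE6 K 3 (fun i => ([2, 3, 4, 6, 5, 4] : List ℤ).getD i 0) ⟨_, (h2 w).1⟩ ∈ h.A := fun w =>
    h.mem_A.mpr fun i => by
    obtain ⟨m, hm⟩ : (3 : ℤ) ∣ ([2, 3, 4, 6, 5, 4] : List ℤ).getD (twE6.ν i) 0 + ([2, 3, 4, 6, 5, 4] : List ℤ).getD i 0 := by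
      revert i; decide +kernel
    rw [h.τ_eq per_E6, hφ, ← Units.val_pow_eq_pow_val, Units.val_inj]
    change w.1 ^ ([2, 3, 4, 6, 5, 4] : List ℤ).getD (twE6.ν i) 0 = (w.1 ^ ([2, 3, 4, 6, 5, 4] : List ℤ).getD i 0) ^ q
    rw [← zpow_natCast, ← zpow_mul, mul_comm, zpow_mul, zpow_natCast,
      eq_inv_of_mul_eq_one_left ((pow_succ w.1 q).symm.trans (h2 w).2),
      inv_zpow, eq_inv_iff_mul_eq_one, ← zpow_add, hm, zpow_mul, zpow_ofNat, (h2 w).1, one_zpow]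
  rw [← h1, ← card_ker_pow]
  refine (Nat.card_eq_of_bijective (fun w => ⟨_, ChevM.hG_eq_one_iff.mp (center_E6.hG_eq_one_iff.mpr ⟨_, rfl⟩), h5 w⟩)
    ⟨fun w w' e => ?_, ?_⟩).symm
  · have : w.1 ^ (4 : ℤ) = w'.1 ^ (4 : ℤ) := congrFun (congrArg Subtype.val e) ⟨5, by decide⟩
    rwa [zpow_ofNat, zpow_ofNat, pow_succ, pow_succ w'.1, (h2 w).1, (h2 w').1, one_mul, one_mul, Subtype.val_inj] at this
  · rintro ⟨a, ha, ha'⟩
    obtain ⟨w, rfl⟩ := center_E6.hG_eq_one_iff.mp (ChevM.hG_eq_one_iff.mpr ha)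
    have h3 : w.1 ^ 3 = 1 := w.2
    have h4 := h.mem_A.mp ha' ⟨0, by decide⟩
    rw [h.τ_eq per_E6, hφ, ← Units.val_pow_eq_pow_val, Units.val_inj,
      show h.tw.νp _ = ⟨5, by decide⟩ from Fin.ext (by rw [Twist.νp_val]; decide +kernel)] at h4
    change w.1 ^ (4 : ℤ) = (w.1 ^ (2 : ℤ)) ^ q at h4
    rw [zpow_ofNat, zpow_ofNat] at h4
    refine ⟨⟨w, pow_gcd_eq_one.mpr ⟨h3, ?_⟩⟩, rfl⟩
    rw [← pow_one (_ ^ _), ← show Nat.gcd 2 3 = 1 from rfl, pow_gcd_eq_one, ← pow_mul, ← pow_mul, mul_comm, mul_comm _ 3,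
      pow_mul _ 3, h3, one_pow, mul_add, pow_add, pow_mul, ← h4, ← pow_add, show 4 + 2 * Nat.gcd 2 3 = 3 * 2 from rfl, pow_mul, h3]
    simp

theorem IsTw.card_Out_E6 {σ : chevE6.group K →* chevE6.group K} (h : IsTw chevE6 twE6 (xG chevE6 K) φ σ)
    (hφk : ∀ t, φ^[2] t = t) (hK : Fintype.card K = q ^ 2) {f : Γ →* chevE6.group K} (E : h.fold.Emb f)
    (hfix : ∀ g, σ g = g → g ∈ f.range) (hf : f.range ≤ h.fold.gen) :
    Nat.card (Out Γ) = Nat.gcd 3 (q + 1) * Nat.card (K ≃+* K) := by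
  have n := fun a => h.nd_of_per per_E6 (repE6 a)
  have n0 : h.Nd (repE6 0) 2 (RingHom.id K) := (n 0).congr hφk
  have n1 : h.Nd (repE6 1) 2 (RingHom.id K) := (n 1).congr hφk
  have n2 : h.Nd (repE6 2) 1 φ := (n 2).congr fun _ => rfl
  have n3 : h.Nd (repE6 3) 1 φ := (n 3).congr fun _ => rfl
  have ho := fun i j => h.orb_inv (i := i) (j := j) (fun i => min i (twE6.ν i)) (by decide +kernel)
  have hinj : ∀ a b, repE6 a ∈ h.fold.orb (repE6 b) → a = b := fun a b e => by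
    have := ho _ _ e
    clear e; revert a b; decide +kernel
  have hn : ∀ a b, a ≠ b → repE6 a ∉ h.fold.orb (repE6 b) := fun a b e e' => e (hinj a b e')
  rw [← h.card_ker_E6 hφ hq hK]
  refine h.card_Out E hfix (i := repE6 0) (h.exists_indS E hf h.hrep_E6 hinj (fun θ π h1 h2 => ?_) fun θ hθ => ?_)
    (fun a ha => ?_) (fun t => (n0.exists_sc E rfl).imp fun x hx => ⟨UL_le_U _ _ hx.1, hx.2⟩) fun j => ?_
  · obtain ⟨t, ht⟩ := exists_pow_ne_self (K := K) hq (hK ▸ lt_self_pow₀ hq (by norm_num))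
    have h3 := fun a b k (m : h.Nd (repE6 a) k (RingHom.id K)) (m' : h.Nd (repE6 b) 1 φ) (e : π a = b) =>
      ht (hφ t ▸ m'.fix_of_map E m (fun x hx => e ▸ (h2 a x).mpr hx) t)
    have h4 : (π 1, π 3) ∉ [(0, 2), (0, 3), (1, 2)] := fun e => n1.not_commute E (j := repE6 3) (by decide +kernel)
      (fun l hl => by have := ho _ _ hl; rw [rs_C]; clear hl; revert l; decide +kernel) fun x y hx hy =>
        θ.injective (E.inj (by simpa using ((n _).commute (n _) (fun l hl m hm => by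
          have h5 := ho _ _ hl
          have h6 := ho _ _ hm
          clear hl hm; revert l m; generalize π 1 = a at e; generalize π 3 = b at e; revert a b; decide +kernel)
          ((h2 1 x).mpr hx) ((h2 3 y).mpr hy)).eq))
    have h5 : π 0 ≠ 2 ∧ π 0 ≠ 3 ∧ π 1 ≠ 2 ∧ π 1 ≠ 3 := ⟨h3 _ _ _ n0 n2, h3 _ _ _ n0 n3, h3 _ _ _ n1 n2, h3 _ _ _ n1 n3⟩
    clear h2 h3; revert π; decide +kernel
  · refine h.indS_of_first E hfix hθ n0 (fun v => by rw [h.cm_dl_single hφ]; rfl) fun θ hθ a0 =>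
      h.indS_of_next E hfix hθ n1 n0 a0 (fun t ht => ⟨t⁻¹, rfl, ?_⟩) fun θ hθ b1 b =>
      h.indS_of_next E hfix hθ n3 n1 b1 (fun t ht => ?_) fun θ hθ c3 c =>
      h.indS_of_next E hfix hθ n2 n3 c3 (fun t ht => ⟨t⁻¹, by simp [ht], ?_⟩) fun θ hθ d2 d => ?_
    · rw [h.cm_dl_single hφ, show exN chevE6 twE6 _ 2 _ = [-1, 0] by decide +kernel]; simp [evQ]
    · obtain ⟨v, hv⟩ := exists_norm_eq (n := 1 + q) (by rw [hK]; ring) (hφ t ▸ ht)
      refine ⟨v⁻¹, rfl, ?_⟩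
      rw [h.cm_dl_single hφ, ← hv, show exN chevE6 twE6 _ 2 _ = [-1, -1] by decide +kernel, inv_zpow', ← zpow_natCast]
      congr 1; simp [evQ]; ring
    · rw [h.cm_dl_single hφ, show exN chevE6 twE6 _ 1 _ = [-1] by decide +kernel]; simp [evQ]
    · rw [E.aut_eq_one hf h.hrep_E6 hθ fun a => by
        fin_cases a
        exacts [d _ (hn 2 0 (by decide)) (c _ (hn 3 0 (by decide)) (b _ (hn 1 0 (by decide)) a0)),
          d _ (hn 2 1 (by decide)) (c _ (hn 3 1 (by decide)) b1), d2, d _ (hn 2 3 (by decide)) c3]]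
      exact one_mem _
  · have h1 : cm chevE6 (a⁻¹ * h.σT a) = 1 := by rw [map_mul, map_inv, h.cm_σT, show h.σT _ = cm chevE6 a from ha, inv_mul_cancel]
    have h2 : (a⁻¹ * h.σT a) ^ 3 = 1 := by
      obtain ⟨w, hw⟩ := center_E6.hG_eq_one_iff.mp (ChevM.hG_eq_one_iff.mpr h1)
      rw [← hw, ← map_pow, show w ^ 3 = 1 from Subtype.ext w.2, map_one]
    have h3 : h.σT (h.σT a) = a := funext fun i => Units.ext (by
      rw [h.σT_E6, h.σT_E6, show h.tw.νp (h.tw.νp i) = i from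
        Fin.ext (by simp only [Twist.νp_val]; revert i; decide +kernel)]
      exact hφk _)
    refine ⟨a * (a⁻¹ * h.σT a) ^ 2, show h.σT _ = a * _ from ?_, by rw [map_mul, map_pow, h1, one_pow, mul_one]⟩
    rw [map_mul, map_pow, map_mul, map_inv, h3, ← mul_inv_eq_one, ← inv_eq_one, ← h2]
    ext i; simp; field_simp
  · obtain ⟨a, ha⟩ := h.hrep_E6 j
    obtain ⟨x, h1, h2⟩ := (n a).exists_sc E (map_one _)
    exact ⟨_, ha, x, UL_le_U _ _ h1, h2⟩

omit hφ hq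

theorem card_Out_twistedD4 (p f : ℕ) [hp : Fact p.Prime] [CharP K p] (hK : Fintype.card K = p ^ (3 * f)) (hf : 1 ≤ f) :
    Nat.card (Out (twistedD4 K (p ^ f))) = 3 * f := by
  have hK' : Fintype.card K = (p ^ f) ^ 3 := by rw [hK, mul_comm, pow_mul]
  obtain ⟨-, -, -, -, φ, hφ, hφk⟩ := exists_frob (hp.out.isPrimePow.pow (by omega)) hK'
  rw [← card_ringEquiv_of K p _ (Nat.card_eq_fintype_card.trans hK)]
  exact IsTw.card_Out_D4 hφ (Nat.one_lt_pow (by omega) hp.out.one_lt) _ hφk hK' (emb_twistedD4 φ hφ hφk)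
    (fun g e => mem_range_wordIncl.mpr ((mem_twistedD4_iff φ hφ hφk).mpr e)) (range_twistedD4 φ hφ hφk).le

theorem card_Out_twistedE6 (p f : ℕ) [hp : Fact p.Prime] [CharP K p] (hK : Fintype.card K = p ^ (2 * f)) (hf : 1 ≤ f) :
    Nat.card (Out (twistedE6 K (p ^ f))) = 2 * Nat.gcd 3 (p ^ f + 1) * f := by
  have hK' : Fintype.card K = (p ^ f) ^ 2 := by rw [hK, mul_comm, pow_mul]
  obtain ⟨-, -, -, -, φ, hφ, hφk⟩ := exists_frob (hp.out.isPrimePow.pow (by omega)) hK'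
  rw [mul_comm 2, mul_assoc, ← card_ringEquiv_of K p _ (Nat.card_eq_fintype_card.trans hK)]
  exact IsTw.card_Out_E6 hφ (Nat.one_lt_pow (by omega) hp.out.one_lt) _ hφk hK' (emb_twistedE6 φ hφ hφk)
    (fun g e => mem_range_wordIncl.mpr ((mem_twistedE6_iff φ hφ hφk).mpr e)) (range_twistedE6 φ hφ hφk).le

end Cfsg.Agent.Chev
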