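import Mathlib
import Cfsg.Agent.Lib.Chev.Invol2
import Cfsg.Agent.Lib.Tw.Invol
import Cfsg.Agent.Lib.Tw.InstF4

/-! Classes of involutions in twisted groups in characteristic two: checkers. -/

set_option autoImplicit false
set_option linter.unusedSectionVars false

namespace Cfsg.Agent.Chev
open Cfsg.Lie RSys PreRGD ChevM

def finL (n : ℕ) (A : List ℕ) : List (Fin n) := A.filterMap fun r => if h : r < n then some ⟨r, h⟩ else none

theorem map_val_finL {n : ℕ} {A : List ℕ} (h : ∀ a ∈ A, a < n) : (finL n A).map Fin.val = A := by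
  induction A with
  | nil => rfl
  | cons a A ih =>
    rw [finL, List.filterMap_cons, dif_pos (h a (by simp)), List.map_cons]
    exact congrArg _ (ih fun b hb => h b (by simp [hb]))

def reflN (D : ChevalleyDatum) (c : TabCert) (L : List ℕ) (r : ℕ) : ℕ :=
  List.rec r (fun a _ s => forceN s (reflB D c a)) L

/-- `v` is a word for an element of the folded Weyl group. -/
def wfB (D : ChevalleyDatum) (T : TwData) (v : List ℕ) : Bool :=
  allL v (Nat.blt · D.rank) && allLt D.nroots fun r => Nat.beq (T.π (wordN D v r)) (wordN D v (T.π r))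

def coverB (D : ChevalleyDatum) (c : TabCert) (T : TwData) (Ls : List (List ℕ))
    (tab : List (ℕ × List ℕ × List ℕ)) : Bool :=
  allLt (2 ^ D.rank) fun n => !(allLt D.rank fun i => n.testBit (T.ν i) == n.testBit i) ||
    match tab.lookup n with
    | none => false
    | some (L, v) => decide (L ∈ Ls) && allL L (Nat.blt · D.nroots) && wfB D T v &&
      allLt D.nroots fun r => Nat.blt (2 * r) D.nroots ||
        Nat.ble D.nroots (2 * wordN D v (reflN D c L (wordN D v.reverse r))) ==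
          allLt D.rank fun i => n.testBit i || decide (c.cor r i = 0)

def moveB (D : ChevalleyDatum) (c : TabCert) (T : TwData) (v L L' : List ℕ) : Bool :=
  allL L (Nat.blt · D.nroots) && allL L' (Nat.blt · D.nroots) && wfB D T v &&
    allLt D.nroots fun r => Nat.beq (wordN D v (reflN D c L (wordN D v.reverse r))) (reflN D c L' r)

def baseB (D : ChevalleyDatum) (c : TabCert) (T : TwData) (L : List ℕ) : Bool :=
  allL L (Nat.blt · D.nroots) && orthL D c L && (L.map T.π).isPerm L

variable {D : ChevalleyDatum} {T : TwData} [Tab D] {K : Type*} [Field K] {c : TabCert}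

variable (D) in
noncomputable def reflL (L : List ℕ) : Equiv.Perm (Fin D.nroots) := ((fl D L).map (rs D).refl).prod

theorem reflL_mem_W (L : List ℕ) : reflL D L ∈ (rs D).W :=
  list_prod_mem fun _ h => by obtain ⟨r, -, rfl⟩ := List.mem_map.mp h; exact (rs D).refl_mem_W r

theorem reflL_val (hc : KeyOK D c) {L : List ℕ} (h : ∀ a ∈ L, a < D.nroots) (r : Fin D.nroots) :
    (reflL D L r : ℕ) = reflN D c L r := by
  induction L with
  | nil => rfl
  | cons a L ih =>
    have h1 : reflN D c (a :: L) r = reflB D c a (reflN D c L r) := forceN_eq _ _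
    rw [h1, ← ih fun b hb => h b (by simp [hb]), reflL, fl, List.filterMap_cons, dif_pos (h a (by simp))]
    exact (hc.reflB_eq ⟨a, _⟩ _).symm

theorem conj_val (hc : KeyOK D c) {L v : List ℕ} (h : ∀ a ∈ L, a < D.nroots) (hv : ∀ a ∈ v, a < D.rank)
    (r : Fin D.nroots) : (((rs D).wordW (finL _ v) * reflL D L * ((rs D).wordW (finL _ v))⁻¹) r : ℕ) =
      wordN D v (reflN D c L (wordN D v.reverse r)) := by
  rw [← wordW_reverse, Equiv.Perm.mul_apply, Equiv.Perm.mul_apply, wordW_val, reflL_val hc h, wordW_val,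
    List.map_reverse, map_val_finL hv]

variable [CharP K 2]

theorem _root_.Cfsg.Agent.ChevM.Orth.pairwise_commute (hoc : OC D K) {L : List (Fin D.nroots)} (h : Orth L) :
    (L.map fun r : Fin D.nroots => xG D K r 1).Pairwise Commute :=
  List.pairwise_map.mpr (h.imp fun h => hoc _ _ h 1 1)

theorem _root_.Cfsg.Agent.ChevM.Orth.map_neg {L : List (Fin D.nroots)} (h : Orth L) : Orth (L.map (rs D).neg) :=
  List.pairwise_map.mpr (h.imp fun h => by simp [h])

theorem _root_.Cfsg.Agent.ChevM.Orth.pr_mul_self (hoc : OC D K) {L : List (Fin D.nroots)} (h : Orth L) : pr D K L * pr D K L = 1 := by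
  induction L with
  | nil => simp
  | cons a L ih =>
    obtain ⟨h1, h2⟩ := List.pairwise_cons.mp h
    have := commute_pr (A := L) (g := xG D K a 1) fun b hb => hoc _ _ (h1 b hb) 1 1
    rw [pr_cons, mul_assoc, ← mul_assoc (pr D K L), ← this.eq, mul_assoc, ih h2, mul_one, xG_mul_self]

theorem _root_.Cfsg.Agent.ChevM.Orth.over (hoc : OC D K) {L : List (Fin D.nroots)} (h : Orth L) :
    (PG D K).Over (pr D K (L.map (rs D).neg) * pr D K L * (pr D K (L.map (rs D).neg))⁻¹) (L.map (rs D).refl).prod := by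
  induction L with
  | nil => simp [over_one_iff, one_mem]
  | cons a L ih =>
    obtain ⟨h1, h2⟩ := List.pairwise_cons.mp h
    have c1 : ∀ b : Fin D.nroots, b = a ∨ b = (rs D).neg a → Commute (xG D K b 1) (pr D K L) ∧
        Commute (xG D K b 1) (pr D K (L.map (rs D).neg)) := fun b hb =>
      ⟨commute_pr fun s hs => hoc _ _ (by rcases hb with rfl | rfl <;> simp [h1 s hs]) 1 1,
        commute_pr fun s hs => hoc _ _ (by
          obtain ⟨s, hs', rfl⟩ := List.mem_map.mp hs
          rcases hb with rfl | rfl <;> simp [h1 s hs']) 1 1⟩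
    obtain ⟨k, hk, e⟩ := exists_nElt_eq (F := K) ((rs D).neg a) one_ne_zero
    have h3 : (PG D K).Over (nElt D (xG D K) ((rs D).neg a : Fin D.nroots) 1) ((rs D).refl a) := by
      rw [e, refl_neg]; exact (over_nW ((rs D).refl_mem_W a)).mul_H hk
    have h4 := h3.mul (ih h2)
    rw [nElt_eq, neg_neg', inv_one, CharTwo.neg_eq] at h4
    rw [List.map_cons, List.map_cons, List.prod_cons, pr_cons, pr_cons]
    convert h4 using 1
    have d1 := c1 a (.inl rfl)
    have d2 := c1 _ (.inr rfl)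
    have d3 := inv_eq_of_mul_eq_one_right (xG_mul_self (D := D) ((rs D).neg a : Fin D.nroots) (1 : K))
    generalize xG D K ((rs D).neg a : Fin D.nroots) 1 = y at *
    rw [mul_inv_rev, d3, mul_assoc y, mul_assoc y, mul_assoc y, mul_assoc y, ← mul_assoc (pr D K _), ← d1.2.eq,
      mul_assoc _ y, ((d2.2.mul_right d2.1).mul_right d2.2.inv_right).eq]
    simp only [mul_assoc]

namespace IsTw
variable {φ : K →+* K} {σ : D.group K →* D.group K} (h : IsTw D T (xG D K) φ σ)

include h in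
theorem σ_char2 (r : Fin D.nroots) (t : K) : σ (xG D K r t) = xG D K (T.π r) (φ t ^ T.e r) := by
  rw [h.map]
  rcases T.ε_cases r with e | e <;> simp [e, CharTwo.neg_eq]

theorem σ_pr (L : List (Fin D.nroots)) : σ (pr D K L) = pr D K (L.map h.tw.ρ) := by
  simp [pr, map_list_prod, Function.comp_def, h.σ_char2]

include h in
theorem σ_prN {L : List ℕ} (hL : ∀ a ∈ L, a < D.nroots) : σ (prN D K L) = prN D K (L.map T.π) := by
  rw [← pr_fl hL, h.σ_pr, ← prN_map_val, List.map_map]
  exact congrArg _ (map_fl hL T.π)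

theorem fix_pr (hoc : OC D K) {L : List (Fin D.nroots)} (h1 : Orth L) (h2 : (L.map h.tw.ρ).Perm L) :
    σ (pr D K L) = pr D K L := by
  rw [h.σ_pr]
  exact ((h2.map _).symm.prod_eq' (h1.pairwise_commute hoc)).symm

include h in
theorem fix_prN {C : Coll} (hC : CollFor D C) (hK : CharOK K C.p) {L : List ℕ}
    (h1 : (allL L (Nat.blt · D.nroots) && C.check (oneW (L.map T.π)) (oneW L)) = true) :
    σ (prN D K L) = prN D K L := by
  simp only [Bool.and_eq_true, allL_iff, Nat.blt_eq] at h1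
  rw [h.σ_prN h1.1]
  simpa only [evS_oneW, prN] using evS_eq_of_check h.chv.rel hC hK 0 h1.2

theorem wfB_mem {v : List ℕ} (hv : wfB D T v = true) : (rs D).wordW (finL _ v) ∈ h.fold.WF := by
  simp only [wfB, Bool.and_eq_true, allL_iff, Nat.blt_eq] at hv
  exact h.wordW_mem_WF _ (by rw [map_val_finL hv.1]; exact hv.2)

variable [Finite K]

theorem odd_H : ∀ k ∈ h.chv.rel.pre.H, ∃ n, Odd n ∧ k ^ n = 1 := fun _ hk =>
  ⟨_, Nat.coprime_two_right.mp (coprime_card_sub_one K 2), h.chv.rel.pow_card_H hk⟩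

variable {Γ : Type*} [Group Γ] {f : Γ →* D.group K} (E : h.fold.Emb f) (hfix : ∀ g, σ g = g → g ∈ f.range)
  (hc : KeyOK D c)

/-- `y` is conjugate to an element over the product of the reflections in `L`. -/
abbrev Rel (_ : h.fold.Emb f) (L : List ℕ) (y : D.group K) : Prop := h.chv.rel.pre.InvW f.range (reflL D L) y

include hc

include hfix in
theorem rel_base (hoc : OC D K) {L : List ℕ} (hL : baseB D c T L = true) : h.Rel E L (prN D K L) := by
  simp only [baseB, Bool.and_eq_true, allL_iff, Nat.blt_eq, List.isPerm_iff] at hL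
  obtain ⟨⟨h1, h2⟩, h3⟩ := hL
  have h4 := orth_of_orthL hc h2
  have h5 : ((fl D L).map h.tw.ρ).Perm (fl D L) := by
    rw [← List.map_perm_map_iff Fin.val_injective, map_val_fl h1, List.map_map]
    exact (map_fl h1 T.π).symm ▸ h3
  rw [← pr_fl h1]
  refine ⟨hfix _ (h.fix_pr hoc h4 h5), h4.pr_mul_self hoc, _, hfix _ (h.fix_pr hoc h4.map_neg ?_), h4.over hoc⟩
  rw [List.map_map, show h.tw.ρ ∘ (rs D).neg = (rs D).neg ∘ h.tw.ρ from funext h.tw.ρ_neg, ← List.map_map]
  exact h5.map _

theorem rel_move {L L' : List ℕ} (v : List ℕ) {y : D.group K} (hy : h.Rel E L y) (hv : moveB D c T v L L' = true) :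
    h.Rel E L' y := by
  simp only [moveB, Bool.and_eq_true, allL_iff, allLt_iff, Nat.blt_eq, Nat.beq_eq] at hv
  obtain ⟨⟨⟨h1, h2⟩, h3⟩, h4⟩ := hv
  have := E.invW_conj (h.wfB_mem h3) hy
  simp only [wfB, Bool.and_eq_true, allL_iff, Nat.blt_eq] at h3
  rwa [show _ * reflL D L * _ = reflL D L' from Equiv.ext fun r => Fin.ext (by
    rw [conj_val hc h1 h3.1, reflL_val hc h2, h4 r r.2])] at this

omit hc in
theorem rel_step {L : List ℕ} {a b g : D.group K} (ha : h.Rel E L a) (hg : g ∈ f.range) (e : g * a = b * g) :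
    h.Rel E L b := by simpa [e] using ha.conj hg

omit hc in
include hfix in
theorem rel_word {C C' : Coll} (hC : CollFor D C) (hK : CharOK K C.p) (hC' : CollFor D C') (hK' : CharOK K C'.p)
    {L a : List ℕ} (g b : List ℕ) (ha : h.Rel E L (prN D K a))
    (h1 : (allL g (Nat.blt · D.nroots) && C.check (oneW (g.map T.π)) (oneW g)) = true)
    (h2 : C'.check (oneW (g ++ a)) (oneW (b ++ g)) = true) : h.Rel E L (prN D K b) :=
  h.rel_step E ha (hfix _ (h.fix_prN hC hK h1)) (by
    simpa only [evS_oneW, prN, List.map_append, List.prod_append] using evS_eq_of_check h.chv.rel hC' hK' 0 h2)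

omit hc in
theorem rel_trans {L L' : List ℕ} {b y : D.group K} (ha : h.Rel E L b) (hb : h.Rel E L' b) (hy : h.Rel E L' y) :
    h.Rel E L y := InvW.trans h.odd_H ha hb hy

theorem cover {Ls : List (List ℕ)} {tab : List (ℕ × List ℕ × List ℕ)} (h1 : coverB D c T ([] :: Ls) tab = true)
    {Rs : List (D.group K)} (h2 : ∀ L ∈ Ls, ∃ y ∈ Rs, h.Rel E L y) (z : Γ) (hz : orderOf z = 2) :
    ∃ y ∈ Rs, ∃ g ∈ f.range, g * f z * g⁻¹ = y := by
  classical
  obtain ⟨J, hJ, h3⟩ := E.exists_invW (z := z) (by rw [← sq, ← hz, pow_orderOf_eq_one])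
  have hn : ∀ i : Fin D.rank, (Nat.ofBits fun i : Fin D.rank => decide (i ∈ J)).testBit i = decide (i ∈ J) :=
    fun i => Nat.testBit_ofBits_lt _ _ i.2
  have h4 := allLt_iff.mp h1 _ (Nat.ofBits_lt_two_pow fun i => decide (i ∈ J))
  generalize (Nat.ofBits fun i : Fin D.rank => decide (i ∈ J)) = n at hn h4
  rw [show (allLt D.rank fun i => n.testBit (T.ν i) == n.testBit i) = true from allLt_iff.mpr fun i hi => by
    rw [hn ⟨i, hi⟩, beq_iff_eq, ← decide_eq_decide.mpr (hJ ⟨i, hi⟩)]; exact hn (h.tw.νp ⟨i, hi⟩), Bool.not_true,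
    Bool.false_or] at h4
  split at h4
  · exact absurd h4 Bool.false_ne_true
  rename_i L v _
  simp only [Bool.and_eq_true, allL_iff, allLt_iff, Nat.blt_eq, decide_eq_true_eq, Bool.or_eq_true, beq_iff_eq] at h4
  obtain ⟨⟨⟨a1, a2⟩, a3⟩, a4⟩ := h4
  have a5 := h.wfB_mem a3
  simp only [wfB, Bool.and_eq_true, allL_iff, Nat.blt_eq] at a3
  rw [← eq_w0_mul_of (mul_mem (mul_mem (Fold.WF_le_W a5) (reflL_mem_W L)) (inv_mem (Fold.WF_le_W a5))) fun r hr => by
    rw [rs_isPos_iff_le, conj_val hc a2 a3.1, ← Nat.ble_eq,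
      (a4 r r.2).resolve_left (not_lt.mpr ((rs_isPos_iff_le r).mp hr)), allLt_iff]
    refine ⟨fun h i hi => ?_, fun h i hi => ?_⟩
    · have := h i i.2
      rw [hn, decide_eq_false hi, Bool.false_or, decide_eq_true_eq, ← hc.cor r r.2 i i.2] at this
      exact cc_eq_zero_iff.mp this
    · rw [hn ⟨i, hi⟩, Bool.or_eq_true, decide_eq_true_eq, decide_eq_true_eq, ← hc.cor r r.2 i hi]
      exact (em _).imp_right fun h' => cc_eq_zero_iff.mpr (h ⟨i, hi⟩ h')] at h3
  rcases List.mem_cons.mp a1 with rfl | a1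
  · obtain ⟨g, -, e⟩ := (E.invW_conj a5 (invW_one _)).exists_conj h.odd_H h3
    rw [mul_one, mul_inv_cancel, ← map_one f] at e
    rw [← E.inj e, orderOf_one] at hz
    omega
  · obtain ⟨y, hy, h5⟩ := h2 L a1
    exact ⟨y, hy, h3.exists_conj h.odd_H (E.invW_conj a5 h5)⟩

theorem classes {ot : ℕ → ℕ → List (ℕ × ℕ × ℕ)} (ho : OT D K ot) {Ls : List (List ℕ)}
    {tab : List (ℕ × List ℕ × List ℕ)} (h1 : coverB D c T ([] :: Ls) tab = true) {R : List (List ℕ × List ℕ)}
    (h2 : repsB D c ot R = true) (h3 : ∀ L ∈ Ls, ∃ y ∈ R.map Prod.fst, h.Rel E L (prN D K y))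
    (h4 : ∀ y ∈ R.map Prod.fst, prN D K y ∈ f.range) :
    ∃ Rs : List Γ, Rs.map f = (R.map Prod.fst).map (prN D K) ∧ (∀ z ∈ Rs, orderOf z = 2) ∧
      (∀ z, orderOf z = 2 → ∃ y ∈ Rs, IsConj z y) ∧ Rs.Pairwise fun y z => ¬ IsConj y z := by
  obtain ⟨a1, a2⟩ := reps_sound hc ho h2
  refine E.ncard_invol (List.forall_mem_map.mpr fun y hy => ⟨h4 y hy, a1 y hy⟩) (h.cover E hc h1 fun L hL => ?_)
    (List.pairwise_map.mpr a2)
  obtain ⟨y, hy, h5⟩ := h3 L hL
  exact ⟨_, List.mem_map_of_mem hy, h5⟩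

end IsTw
end Cfsg.Agent.Chev
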