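/-
The Schur multiplier of `²F₄(q)`: the `2`-part.
-/
import Cfsg.Agent.Lib.Tw.InstF4

set_option autoImplicit false

namespace Cfsg.Agent.Chev

open Cfsg.Lie RSys PreRGD

/-- Exponents giving an injective character. -/
def goodF : List ℤ → Bool
  | [a, b] => [1, 2, 4, 8, 16].contains (2 * a ^ 2 - b ^ 2).natAbs
  | _ => false

/-- The pairs of levels forming a class of type `B₂`. -/
def skipF (j i : ℕ) : Bool := [(0, 1), (3, 7), (5, 10), (4, 11)].contains (j, i)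

theorem checkSep_F4 : checkSep chevF4 twF4 levF4 2 goodF (allL · isZ)
    [[], [[]], [[-1,-2],[-1,-2]], [[-1,-1,-1],[-1,-1,-1],[-1,-2]], [[0,-1],[0,-1],[0,-1],[0,-1]],
      [[-1,-1],[-1,-1],[-1,-1],[-1,-1],[0,-1]], [[0,-1,0,-1],[0,-1,0,-1],[0,-1,0,-1],[0,-1,0,-1],[0,-1],[-1,-1]],
      [[-1,-1,-1],[-1,-1,-1],[-1,-2],[],[0,-1],[-1,-1],[0,-1,0,-1]],
      [[-1,-1,-1],[-1,-1,-1],[-1,-2],[-1,-1,0,1],[0,-1],[-1,-1],[0,-1,0,-1],[-1,-1,0,1]],
      [[-1],[-1],[-1],[-1],[-1],[-1],[-1],[-1],[-1]],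
      [[-1,-1],[-1,-1],[-1,-1],[-1,-1],[0,-1],[],[-1,-1],[-1,-1],[-1,-1],[-1]],
      [[0,-1],[0,-1],[0,-1],[0,-1],[],[0,-1],[0,-1],[0,-1],[0,-1],[-1],[0,-1]]] skipF = true := by
  decide +kernel

theorem diag_F4 : ∀ i < 12, goodF (exN chevF4 twF4 (if i = 9 then [0, -1] else [-1]) 2 (levF4.rep i)) = true := by
  decide +kernel

variable {K : Type*} [Field K] [CharP K 2] {φ : K →+* K} {q : ℕ} (hφ : ∀ t, φ t = t ^ q) (hφ2 : ∀ t, φ (φ t) ^ 2 = t)

include hφ hφ2 in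
theorem goodF_spec (v : List ℤ) (hv : goodF v = true) (t : Kˣ) (ht : t ^ evQ q v = 1) : t = 1 := by
  unfold goodF at hv
  split at hv
  · rename_i a b
    have h1 : t ^ (2 * q ^ 2 : ℤ) = t := Units.ext (by
      rw [← hφ2 t, hφ, hφ, ← pow_mul, ← pow_mul, ← Units.val_pow_eq_pow_val, ← zpow_natCast]; congr 2; push_cast; ring)
    have h2 : t ^ (2 * a ^ 2 - b ^ 2) = 1 := by
      have : t ^ (evQ q [a, b] * (2 * (a - q * b))) = 1 := by rw [zpow_mul, ht, one_zpow]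
      rwa [show evQ q [a, b] * (2 * (a - q * b)) = 2 * a ^ 2 - 2 * q ^ 2 * b ^ 2 by simp [evQ]; ring, zpow_sub, zpow_mul,
        zpow_mul t (2 * q ^ 2), h1, ← zpow_mul, ← zpow_sub] at this
    obtain ⟨k, hk⟩ : ∃ k, (2 * a ^ 2 - b ^ 2).natAbs = 2 ^ k := by
      simp only [List.contains_iff_mem, List.mem_cons, List.not_mem_nil, or_false] at hv
      rcases hv with e | e | e | e | e
      exacts [⟨0, e⟩, ⟨1, e⟩, ⟨2, e⟩, ⟨3, e⟩, ⟨4, e⟩]
    rw [← pow_natAbs_eq_one, hk, Units.ext_iff, Units.val_pow_eq_pow_val, ← iterateFrobenius_def] at h2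
    exact Units.ext ((iterateFrobenius K 2 k).injective (h2.trans (map_one _).symm))
  · exact absurd hv (by simp)

namespace IsTw

variable {G : Type*} [Group G] {x : ℕ → K → G} {σ : G →* G} (h : IsTw chevF4 twF4 x φ σ) [Finite K] {Γ : Type*}
  [Group Γ] {f : Γ →* G} (E : h.fold.Emb f) {E' : Type*} [Group E'] {π : E' →* Γ} (hπ : CExt π)

omit [CharP K 2] in
theorem lc_of_word (hC : (h.filt levOK_F4 E).Cm hπ 0 11 ⊥) (l : List (Fin chevF4.rank))
    (hl : (allLt chevF4.nroots fun r => Nat.beq (twF4.π (wordN chevF4 (l.map Fin.val) r))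
      (wordN chevF4 (l.map Fin.val) (twF4.π r))) = true) {a b : Γ}
    (ha : f a ∈ USub (XS chevF4 x) {r | lvB chevF4 levF4 0 (wordN chevF4 (l.map Fin.val) r) = true})
    (hb : f b ∈ USub (XS chevF4 x) {r | lvB chevF4 levF4 11 (wordN chevF4 (l.map Fin.val) r) = true}) : hπ.LC a b := by
  obtain ⟨m, hm⟩ := E.exists_over (h.wordW_mem_WF l hl)
  have h1 : ∀ i g, f g ∈ USub (XS chevF4 x) {r | lvB chevF4 levF4 i (wordN chevF4 (l.map Fin.val) r) = true} →
      m * g * m⁻¹ ∈ (h.filt levOK_F4 E).F i := fun i g hg => E.conjLe_US hm (fun s hs => mem_Lv_iff.mpr (by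
    rw [wordW_val]; exact hs)) g hg
  simpa [mul_assoc] using (hπ.cm_eq_one_iff.mp (hC _ (h1 0 a ha) _ (h1 11 b hb))).conj m⁻¹

include hφ2 in
theorem kill_class (hC : (h.filt levOK_F4 E).Cm hπ 0 11 ⊥) (l : List (Fin chevF4.rank))
    (hl : (allLt chevF4.nroots fun r => Nat.beq (twF4.π (wordN chevF4 (l.map Fin.val) r))
      (wordN chevF4 (l.map Fin.val) (twF4.π r))) = true) {j i a d : ℕ} (hj : j < 12) (hi : i < 12)
    (h1 : (allL [(a, levF4.rep j, 2), (levF4.rep j, a, 1), (levF4.rep i, d, 2), (d, levF4.rep i, 1)] fun e =>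
      decide (e.1 < chevF4.nroots) && decide (twF4.π e.1 = e.2.1) && !twF4.sg e.1 && decide (twF4.e e.1 = e.2.2)) = true)
    (h2 : (collF4 2 (ordOf chevF4 certF4 [1, 1, 1, 1])).check (bL a (levF4.rep j) (levF4.rep i) d)
      (bL' a (levF4.rep j) (levF4.rep i) d) = true)
    (h3 : (allL [a, d, levF4.rep i] fun r => lvB chevF4 levF4 j r && r != levF4.rep j) = true)
    (h4 : (lvB chevF4 levF4 i d && d != levF4.rep i) = true)
    (h5 : ∀ r ∈ [a, levF4.rep j, levF4.rep i, d], ∃ h : r < chevF4.nroots, (rs chevF4).IsPos ⟨r, h⟩ ∧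
      lvB chevF4 levF4 0 (wordN chevF4 (l.map Fin.val) r) = true)
    (h6 : ∀ r ∈ [levF4.rep i, d], lvB chevF4 levF4 11 (wordN chevF4 (l.map Fin.val) r) = true) (N : Subgroup E') :
    (h.filt levOK_F4 E).Kill hπ N j i := Filt.kill_lc fun u _ v _ => by
  simp only [List.forall_mem_cons] at h5 h6
  obtain ⟨⟨a1, a2⟩, ⟨b1, b2⟩, ⟨c1, c2⟩, ⟨d1, d2⟩, -⟩ := h5
  have h7 : ∀ t u, ∃ g, f g = bW x φ a (levF4.rep j) (levF4.rep i) d t u := fun t u =>
    E.exists_U (bW_mem (a := ⟨a, a1⟩) (b := ⟨_, b1⟩) (c := ⟨_, c1⟩) (d := ⟨d, d1⟩) a2.1 b2.1 c2.1 d2.1 t u)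
      (h.σ_bW hφ2 h1 h2 t u)
  obtain ⟨u', hu⟩ := h7 ((h.filt levOK_F4 E).c j u) 0
  obtain ⟨v', hv⟩ := h7 0 ((h.filt levOK_F4 E).c i v)
  have h8 := h.filt_word levOK_F4 E hj (hu.trans (h.bW_eq' h2 _ _)) (by simpa [allL_iff] using h3)
  have h9 : f v' = evS x (fun k => [(h.filt levOK_F4 E).c i v, φ ((h.filt levOK_F4 E).c i v)].getD k 0)
      [(levF4.rep i, [(1, [0])]), (d, [(1, [1, 1])])] := by
    simp [hv, bW, h.chv.rel.zero a1, h.chv.rel.zero b1, sq]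
  have h10 := h.filt_word levOK_F4 E hi h9 (by simpa [allL_iff] using h4)
  refine ⟨u', h8.1, v', h10.1, by simp [h8.2], by simp [h10.2], h.lc_of_word E hπ hC l hl (hu ▸ bW_mem (a := ⟨a, a1⟩)
    (b := ⟨_, b1⟩) (c := ⟨_, c1⟩) (d := ⟨d, d1⟩) a2.2 b2.2 c2.2 d2.2 _ _) (h9 ▸ evS_mem_USub _ ?_)⟩
  simp only [List.forall_mem_cons]
  exact ⟨⟨c1, h6.1⟩, ⟨d1, h6.2.1⟩, by simp⟩

theorem exists_oneW {l : List ℕ} (h1 : (allL l fun r => decide (r < chevF4.nroots) && !twF4.sg r) = true)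
    (h2 : (allL (oneW l) fun a => lvB chevF4 levF4 0 a.1) = true)
    (h3 : (collF4 2 levF4.ord).check (oneW (l.map twF4.π)) (oneW l) = true) :
    ∃ g ∈ (h.filt levOK_F4 E).F 0, f g = evS x 0 (oneW l) := by
  obtain ⟨g, hg⟩ := E.exists_U (u := evS x 0 (oneW l)) (evS_mem_USub _ fun a ha => by
    have := allL_iff.mp h2 a ha
    exact ⟨by simp only [lvB, Bool.and_eq_true, decide_eq_true_eq] at this; exact this.1.1, (mem_Lv_iff.mpr this).1⟩)
    ((h.σ_oneW 0 h1).trans (evS_eq_of_check h.chv.rel (collFor_F4 _ _) (charOK_of K 2) _ h3))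
  exact ⟨g, h.mem_F_word levOK_F4 E hg h2, hg⟩

variable (hG : GS chevF4 x = ⊤) (hZ : Subgroup.center G = ⊥) (hK : 5 ≤ Nat.card K)
include hφ hφ2 hG hZ

theorem scale_F4 {i : ℕ} (hi : i < 12) (v : K) (hv : v ≠ 0) :
    ∃ g ∈ (h.filt levOK_F4 E).H, (h.filt levOK_F4 E).χ i g = v :=
  h.scale_of hφ levOK_F4 E (h.tor_mem_F4 hφ2 E hG hZ) hi (goodF_spec hφ hφ2 _ (diag_F4 i hi)) v hv

include hK

theorem ext_F4 {i : ℕ} (hi : i < 12) : ∃ g ∈ (h.filt levOK_F4 E).H, (h.filt levOK_F4 E).χ i g ≠ 1 :=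
  let ⟨v, h0, h1, _⟩ := (big_of_natCard hK).exists_scale
  (h.scale_F4 hφ hφ2 E hG hZ hi v h0).imp fun _ hg => ⟨hg.1, fun e => h1 (hg.2.symm.trans e)⟩

include hπ in
theorem split_F4 (ℓ : ℕ) : Split π ℓ ((h.filt levOK_F4 E).F 0) := by
  have hT := h.tor_mem_F4 hφ2 E hG hZ
  obtain ⟨v, v0, v1, -⟩ := (big_of_natCard hK).exists_scale
  have h1 : ∀ i < 12, ∀ j ≤ i, skipF j i = false → ∀ N, (h.filt levOK_F4 E).Kill hπ N j i := fun i hi j hj hs N => by
    rcases hj.eq_or_lt with rfl | hj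
    · exact h.kill_scale_of hφ levOK_F4 E hT hπ N (big_of_natCard hK) hi (goodF_spec hφ hφ2 _ (diag_F4 j hi))
    · exact h.kill_sep hφ levOK_F4 E hT hπ N (fun w hw => ⟨Units.mk0 v v0, fun e => v1 (congrArg Units.val
        (goodF_spec hφ hφ2 w hw _ e))⟩) (fun v hv t => by rw [evQ_zero q hv, zpow_zero]) checkSep_F4 hi hj hs
  have h2 : ∀ N, (h.filt levOK_F4 E).Kill hπ N 4 11 := fun N => by
    obtain ⟨a, ha, ea⟩ := h.exists_oneW E (l := [28, 30]) (by decide +kernel) (by decide +kernel) (by decide +kernel)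
    obtain ⟨b, hb, eb⟩ := h.exists_oneW E (l := [24, 33]) (by decide +kernel) (by decide +kernel) (by decide +kernel)
    have h3 := h.filt_word levOK_F4 E (i := 4) (by decide) (g := a⁻¹ * b⁻¹ * a * b) (v := 0) (P := [(1, [])])
      (w := oneW [41, 31, 35, 32, 37, 36, 42, 38, 43, 46, 44]) (by
        rw [map_mul, map_mul, map_mul, map_inv, map_inv, ea, eb]
        exact h.chv.rel.comm_of_check (collFor_F4 2 levF4.ord) (charOK_of K 2) 0 (by decide +kernel)) (by decide +kernel)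
    exact Filt.kill_comm (h.scale_F4 hφ hφ2 E hG hZ (by decide)) ha hb h3.1 fun e => by
      simpa [h3.2] using (Filt.c_eq_zero _ 4 (show 4 < 12 by decide) _ h3.1).mpr e
  have hC : (h.filt levOK_F4 E).Cm hπ 0 11 ⊥ := (Filt.st_top _ hπ).step (i := 11) (show 11 < 12 by decide)
    (Filt.cm_top _ hπ) fun j hj => by
      by_cases e : j = 4
      · exact e ▸ h2 ⊥
      · exact h1 11 (by decide) j hj (by simp [skipF, e]) ⊥
  refine Filt.split (hπ := hπ) (fun i hi j hj N => ?_) fun i hi _ => h.ext_F4 hφ hφ2 E hG hZ hK hi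
  cases hs : skipF j i
  · exact h1 i hi j hj hs N
  simp only [skipF, List.contains_iff_mem, List.mem_cons, Prod.mk.injEq, List.not_mem_nil, or_false] at hs
  rcases hs with ⟨rfl, rfl⟩ | ⟨rfl, rfl⟩ | ⟨rfl, rfl⟩ | ⟨rfl, rfl⟩
  · exact h.kill_class hφ2 E hπ hC ([0, 3, 1, 2, 1, 2, 0, 3] : List (Fin 4)) (by decide +kernel) (a := 27) (d := 30)
      (by decide) (by decide) (by decide +kernel) (by decide +kernel) (by decide +kernel) (by decide +kernel)
      (by simp only [rs_isPos_iff_le]; decide +kernel) (by decide +kernel) N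
  · exact h.kill_class hφ2 E hπ hC ([0, 3, 1, 2, 1, 2] : List (Fin 4)) (by decide +kernel) (a := 34) (d := 42)
      (by decide) (by decide) (by decide +kernel) (by decide +kernel) (by decide +kernel) (by decide +kernel)
      (by simp only [rs_isPos_iff_le]; decide +kernel) (by decide +kernel) N
  · exact h.kill_class hφ2 E hπ hC ([0, 3] : List (Fin 4)) (by decide +kernel) (a := 35) (d := 46)
      (by decide) (by decide) (by decide +kernel) (by decide +kernel) (by decide +kernel) (by decide +kernel)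
      (by simp only [rs_isPos_iff_le]; decide +kernel) (by decide +kernel) N
  · exact h2 N

end IsTw

end Cfsg.Agent.Chev
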