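/-
The symplectic representation of the Steinberg group of type `B₂` and the Suzuki subgroups of groups of type `B₂`.
-/
import Cfsg.Agent.Lib.Tw.InstF4
import Cfsg.Agent.Lib.Suz.Sub
import Cfsg.Agent.Lib.Suz.Iso

set_option autoImplicit false

namespace Cfsg.Agent.Chev

open Cfsg.Lie RSys PreRGD

variable {K : Type*} [Field K] {G : Type*} [Group G]

section

variable {D D' : ChevalleyDatum} {x : ℕ → K → G}

/-- The terms of a commutator relation modulo `p`. -/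
def modTerms (p : ℕ) (L : List (ℕ × ℤ × ℕ × ℕ)) : List (ℕ × ℤ × ℕ × ℕ) :=
  (L.filter fun c => c.2.1 % (p : ℤ) != 0).map fun c => (c.1, c.2.1 % p, c.2.2)

theorem wordVal_modTerms {p : ℕ} (hK : CharOK K p) {L : List (ℕ × ℤ × ℕ × ℕ)} (h : ∀ c ∈ L, x c.1 0 = 1) (t u : K) :
    wordVal x (L.map fun c => (c.1, (c.2.1 : K) * (-t) ^ c.2.2.1 * u ^ c.2.2.2)) =
      wordVal x ((modTerms p L).map fun c => (c.1, (c.2.1 : K) * (-t) ^ c.2.2.1 * u ^ c.2.2.2)) := by
  rw [wordVal_filter x _ _ (fun c => c.2.1 % (p : ℤ) != 0) fun c hc h0 => by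
    rw [← hK.cast_emod, show c.2.1 % (p : ℤ) = 0 by simpa using h0]
    simpa using h c hc]
  simp only [modTerms, List.map_map, Function.comp_def, hK.cast_emod]

theorem StRel.sub [Good D] [Good D'] (hx : StRel D' x) {p : ℕ} (hK : CharOK K p) {ι : ℕ → ℕ}
    (h : ∀ r < D.nroots, ι r < D'.nroots ∧ ∀ s < D.nroots, s ≠ r → s ≠ D.neg r → ι s ≠ ι r ∧ ι s ≠ D'.neg (ι r) ∧
      modTerms p (D'.commTerms (ι r) (ι s)) = (modTerms p (D.commTerms r s)).map fun c => (ι c.1, c.2)) :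
    StRel D fun r t => x (ι r) t where
  add r t u hr := hx.add _ t u (h r hr).1
  comm r s t u hr hs h1 h2 := by
    obtain ⟨h3, h4, h5⟩ := (h r hr).2 s hs h1 h2
    rw [hx.comm _ _ t u (h r hr).1 (h s hs).1 h3 h4, ChevalleyDatum.commWord, ChevalleyDatum.commWord,
      wordVal_modTerms hK fun c hc => hx.zero (commTerms_sound (h r hr).1 (h s hs).1 hc).1, h5,
      wordVal_modTerms (x := fun r t => x (ι r) t) hK fun c hc => hx.zero (h _ (commTerms_sound hr hs hc).1).1]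
    simp [wordVal, Function.comp_def]

variable [Tab D] [Finite K] {E : Type*} [Group E] {y : ℕ → K → E}

theorem Chv.injective_of (hy : Chv D y) (hG : GS D y = ⊤) (f : E →* G) {A : Subgroup G}
    (hU : ∀ r : Fin D.nroots, (rs D).IsPos r → ∀ t, f (y r t) ∈ A)
    (hH : ∀ (i : Fin D.rank) (t : K), t ≠ 0 → f (hElt D y (D.simple i) t) ∈ A)
    (hn : ∀ i : Fin D.rank, f (nElt D y (D.simple i) 1) ∉ A) (hinj : ∀ (r : Fin D.nroots) t, f (y r t) = 1 → t = 0)
    (hc : ∀ a : Fin D.rank → Kˣ, (∀ r, chi D a r = 1) → a = 1) : Function.Injective f := by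
  have h0 : hy.rel.pre.full = ⊤ := (R7.pre_full _ _).trans hG
  have h1 : A.comap f = hy.rel.pre.B := by
    rw [hy.nondeg.eq_PJ_of_B_le (K := A.comap f) (sup_le (USub_XS_le_iff.mpr hU) (hy.r7.HS_le_of_simple hy.rel hH))
      (h0 ▸ le_top), ← PJ_empty]
    exact congrArg _ (Set.eq_empty_of_forall_notMem hn)
  have h2 : ∀ g, f g = 1 → g ∈ hy.rel.pre.B := fun g hg => h1 ▸ (show f g ∈ A from hg ▸ one_mem A)
  refine (injective_iff_map_eq_one f).mpr fun g hg => ?_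
  obtain ⟨a, rfl⟩ := hy.rel.mem_H_iff.mp (hy.nondeg.mem_H_of_mem_B_Bm (h2 g hg) (mem_Bm_iff.mpr (h2 _ (by simp [hg]))))
  rw [hc a fun r => Units.ext (sub_eq_zero.mp (hinj r _ ?_)), map_one]
  have h3 := congrArg f (hy.rel.actsBy_torus hy.rel.r3_of_finite a r 1)
  rw [map_mul, map_mul, map_inv, hg, one_mul, inv_one, mul_one, mul_one] at h3
  rw [sub_eq_add_neg, ← hy.rel.add _ _ _ r.2, map_mul, ← h3, ← map_mul, hy.rel.add _ _ _ r.2, Units.val_one,
    add_neg_cancel, hy.rel.zero r.2, map_one]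

end

theorem mul_fin_four (a00 a01 a02 a03 a10 a11 a12 a13 a20 a21 a22 a23 a30 a31 a32 a33 b00 b01 b02 b03 b10 b11 b12 b13
    b20 b21 b22 b23 b30 b31 b32 b33 : K) :
    !![a00, a01, a02, a03; a10, a11, a12, a13; a20, a21, a22, a23; a30, a31, a32, a33] *
      !![b00, b01, b02, b03; b10, b11, b12, b13; b20, b21, b22, b23; b30, b31, b32, b33] =
    !![a00 * b00 + a01 * b10 + a02 * b20 + a03 * b30, a00 * b01 + a01 * b11 + a02 * b21 + a03 * b31,
        a00 * b02 + a01 * b12 + a02 * b22 + a03 * b32, a00 * b03 + a01 * b13 + a02 * b23 + a03 * b33;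
      a10 * b00 + a11 * b10 + a12 * b20 + a13 * b30, a10 * b01 + a11 * b11 + a12 * b21 + a13 * b31,
        a10 * b02 + a11 * b12 + a12 * b22 + a13 * b32, a10 * b03 + a11 * b13 + a12 * b23 + a13 * b33;
      a20 * b00 + a21 * b10 + a22 * b20 + a23 * b30, a20 * b01 + a21 * b11 + a22 * b21 + a23 * b31,
        a20 * b02 + a21 * b12 + a22 * b22 + a23 * b32, a20 * b03 + a21 * b13 + a22 * b23 + a23 * b33;
      a30 * b00 + a31 * b10 + a32 * b20 + a33 * b30, a30 * b01 + a31 * b11 + a32 * b21 + a33 * b31,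
        a30 * b02 + a31 * b12 + a32 * b22 + a33 * b32, a30 * b03 + a31 * b13 + a32 * b23 + a33 * b33] := by
  ext i j
  fin_cases i <;> fin_cases j <;> simp [Matrix.mul_apply, Fin.sum_univ_four]

theorem one_fin_four : (1 : Matrix (Fin 4) (Fin 4) K) = !![1, 0, 0, 0; 0, 1, 0, 0; 0, 0, 1, 0; 0, 0, 0, 1] := by
  ext i j
  fin_cases i <;> fin_cases j <;> rfl

theorem fin_four_inj {a00 a01 a02 a03 a10 a11 a12 a13 a20 a21 a22 a23 a30 a31 a32 a33 b00 b01 b02 b03 b10 b11 b12 b13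
    b20 b21 b22 b23 b30 b31 b32 b33 : K} :
    !![a00, a01, a02, a03; a10, a11, a12, a13; a20, a21, a22, a23; a30, a31, a32, a33] =
      !![b00, b01, b02, b03; b10, b11, b12, b13; b20, b21, b22, b23; b30, b31, b32, b33] ↔
    (a00 = b00 ∧ a01 = b01 ∧ a02 = b02 ∧ a03 = b03) ∧ (a10 = b10 ∧ a11 = b11 ∧ a12 = b12 ∧ a13 = b13) ∧
      (a20 = b20 ∧ a21 = b21 ∧ a22 = b22 ∧ a23 = b23) ∧ a30 = b30 ∧ a31 = b31 ∧ a32 = b32 ∧ a33 = b33 := by
  simp

/-- The symplectic root matrices. -/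
def spM : ℕ → K → Matrix (Fin 4) (Fin 4) K
  | 0, t => !![1, 0, 0, 0; 0, 1, 0, 0; 0, 0, 1, 0; t, 0, 0, 1]
  | 1, t => !![1, 0, 0, 0; 0, 1, 0, 0; -t, 0, 1, 0; 0, t, 0, 1]
  | 2, t => !![1, 0, 0, 0; t, 1, 0, 0; 0, 0, 1, 0; 0, 0, t, 1]
  | 3, t => !![1, 0, 0, 0; 0, 1, 0, 0; 0, t, 1, 0; 0, 0, 0, 1]
  | 4, t => !![1, 0, 0, 0; 0, 1, t, 0; 0, 0, 1, 0; 0, 0, 0, 1]
  | 5, t => !![1, t, 0, 0; 0, 1, 0, 0; 0, 0, 1, t; 0, 0, 0, 1]
  | 6, t => !![1, 0, -t, 0; 0, 1, 0, t; 0, 0, 1, 0; 0, 0, 0, 1]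
  | 7, t => !![1, 0, 0, t; 0, 1, 0, 0; 0, 0, 1, 0; 0, 0, 0, 1]
  | _, _ => 1

theorem spM_add (r : ℕ) (t u : K) : spM r t * spM r u = spM r (t + u) := by
  unfold spM
  split <;> simp [mul_fin_four, add_comm]

theorem spM_zero (r : ℕ) : spM r (0 : K) = 1 := by
  unfold spM
  split <;> simp [one_fin_four]

/-- The symplectic root elements. -/
def spX (r : ℕ) (t : K) : GL (Fin 4) K :=
  ⟨spM r t, spM r (-t), by rw [spM_add, add_neg_cancel, spM_zero], by rw [spM_add, neg_add_cancel, spM_zero]⟩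

@[simp] theorem val_spX (r : ℕ) (t : K) : (spX r t : Matrix (Fin 4) (Fin 4) K) = spM r t := rfl

@[simp] theorem val_spX_inv (r : ℕ) (t : K) : ((spX r t)⁻¹ : GL (Fin 4) K) = spX r (-t) := Units.ext rfl

theorem commTerms_B2_eq : ∀ r < 8, ∀ s < 8, (chevB2.commTerms r s == (([[[], [], [], [], [], [(1, 1, 1, 1), (3, -1, 1, 2)],
    [(2, -1, 1, 1), (4, 1, 1, 2)], []], [[], [], [(0, 2, 1, 1)], [], [(2, 1, 1, 1), (0, 1, 2, 1)], [(3, -2, 1, 1)], [],
    [(5, -1, 1, 1), (3, 1, 2, 1)]], [[], [(0, -2, 1, 1)], [], [(1, 1, 1, 1), (0, -1, 2, 1)], [], [], [(4, -2, 1, 1)],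
    [(6, 1, 1, 1), (4, -1, 2, 1)]], [[], [], [(1, -1, 1, 1), (0, -1, 1, 2)], [], [], [], [(5, 1, 1, 1), (7, 1, 1, 2)],
    []], [[], [(2, -1, 1, 1), (0, 1, 1, 2)], [], [], [], [(6, 1, 1, 1), (7, -1, 1, 2)], [], []],
    [[(1, -1, 1, 1), (3, -1, 2, 1)], [(3, 2, 1, 1)], [], [], [(6, -1, 1, 1), (7, -1, 2, 1)], [], [(7, 2, 1, 1)], []],
    [[(2, 1, 1, 1), (4, 1, 2, 1)], [], [(4, 2, 1, 1)], [(5, -1, 1, 1), (7, 1, 2, 1)], [], [(7, -2, 1, 1)], [], []],
    [[], [(5, 1, 1, 1), (3, 1, 1, 2)], [(6, -1, 1, 1), (4, -1, 1, 2)], [], [], [], [], []]] :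
      List (List (List (ℕ × ℤ × ℕ × ℕ)))).getD r []).getD s []) = true := by decide +kernel

set_option maxHeartbeats 2000000 in
theorem stRel_spX : StRel chevB2 (spX : ℕ → K → GL (Fin 4) K) where
  add r t u _ := Units.ext (spM_add r t u)
  comm r s t u hr hs h1 h2 := by
    rw [neg_eq hr] at h2
    change r < 8 at hr
    change s < 8 at hs
    change s ≠ 7 - r at h2
    rw [ChevalleyDatum.commWord, beq_iff_eq.mp (commTerms_B2_eq r hr s hs), mul_assoc, mul_assoc, inv_mul_eq_iff_eq_mul,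
      inv_mul_eq_iff_eq_mul, Units.ext_iff]
    interval_cases r <;> interval_cases s <;> first | exact absurd rfl h1 | exact absurd rfl h2 | skip
    all_goals
      simp only [List.getD_cons_succ, List.getD_cons_zero, List.map_cons, List.map_nil, wordVal_cons, wordVal_nil,
        Units.val_mul, val_spX, mul_one, spM, mul_fin_four, fin_four_inj, mul_zero, zero_mul, add_zero, zero_add,
        one_mul, true_and, and_true]
      try
        push_cast
        repeat' constructor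
        all_goals ring1

theorem spX_injective [Finite K] [CharP K 2] :
    Function.Injective ((stRel_spX (K := K)).liftSt stRel_spX.r3_of_finite) := by
  let A : Subgroup (GL (Fin 4) K) :=
    { carrier := {g | (g : Matrix (Fin 4) (Fin 4) K).BlockTriangular id}
      mul_mem' := fun ha hb => ha.mul hb
      one_mem' := Matrix.blockTriangular_one
      inv_mem' := fun {g} hg => by
        have := g.invertible
        simpa using Matrix.blockTriangular_inv_of_blockTriangular hg }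
  have h0 := StRel.liftSt_stGen (stRel_spX (K := K)) stRel_spX.r3_of_finite
  have h1 : ∀ g : GL (Fin 4) K, g ∈ A ↔ g.1 1 0 = 0 ∧ g.1 2 0 = 0 ∧ g.1 3 0 = 0 ∧ g.1 2 1 = 0 ∧ g.1 3 1 = 0 ∧ g.1 3 2 = 0 :=
    fun g => ⟨fun h => ⟨h (by decide), h (by decide), h (by decide), h (by decide), h (by decide), h (by decide)⟩,
      fun h i j e => by fin_cases i <;> fin_cases j <;> simp_all⟩
  refine (chv_steinberg chevB2 K).injective_of (GS_stGen _ _) _ (A := A) (fun r hr t => ?_) (fun i t ht => ?_)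
    (fun i => ?_) (fun r t => ?_) fun a ha => ?_
  · rw [h0, h1]
    rw [rs_isPos_iff_le] at hr
    obtain ⟨r, hr'⟩ := r
    change 8 ≤ 2 * r at hr
    change r < 8 at hr'
    interval_cases r <;> simp [spM] at hr ⊢
  · rw [← rs_simple_val, map_hElt_of _ h0, rs_simple_val, h1, hElt_def, nElt_def, nElt_def]
    obtain e | e : (chevB2.simple i = 5 ∧ chevB2.neg (chevB2.simple i) = 2) ∨
      (chevB2.simple i = 4 ∧ chevB2.neg (chevB2.simple i) = 3) := by revert i; decide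
    all_goals rw [e.2, e.1]; simp only [Units.val_mul, val_spX, spM, mul_fin_four]; simp [ht]
  · rw [← rs_simple_val, map_nElt_of _ h0, rs_simple_val, h1, nElt_def]
    obtain e | e : (chevB2.simple i = 5 ∧ chevB2.neg (chevB2.simple i) = 2) ∨
      (chevB2.simple i = 4 ∧ chevB2.neg (chevB2.simple i) = 3) := by revert i; decide
    all_goals rw [e.2, e.1]; simp only [Units.val_mul, val_spX, spM, mul_fin_four]; simp
  · rw [h0, Units.ext_iff, Units.val_one, one_fin_four]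
    obtain ⟨r, hr⟩ := r
    change r < 8 at hr
    interval_cases r <;> simp [spM]
  · have h2 : a = cot chevB2 [1] (a ⟨0, by decide⟩) * cot chevB2 [0, 1] (a ⟨1, by decide⟩) := by
      ext i; fin_cases i <;> simp [cot]
    have h3 := ha ⟨6, by decide⟩
    have h4 := ha ⟨7, by decide⟩
    rw [h2, chi_mul, chi_cot, chi_cot] at h3 h4
    change a _ ^ (0 : ℤ) * a _ ^ (1 : ℤ) = 1 at h3
    change a _ ^ (2 : ℤ) * a _ ^ (0 : ℤ) = 1 at h4
    rw [zpow_zero, one_mul, zpow_one] at h3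
    rw [zpow_zero, mul_one, zpow_two, Units.ext_iff, Units.val_mul, Units.val_one, mul_self_eq_one_iff,
      CharTwo.neg_eq, or_self, Units.val_eq_one] at h4
    rw [h2, h3, h4]
    ext i; simp [cot]

theorem isCyclic_of_le_range {Γ : Type*} [Group Γ] [Finite Γ] (f : Γ →* G) {ℓ : ℕ} [Fact ℓ.Prime]
    (hΓ : ∀ R : Subgroup Γ, IsPGroup ℓ R → IsCyclic R) {P : Subgroup G} (hP : IsPGroup ℓ P) (h : P ≤ f.range) :
    IsCyclic P := by
  obtain ⟨S⟩ : Nonempty (Sylow ℓ (P.comap f)) := inferInstance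
  have h1 : Function.Surjective (f.subgroupComap P) := fun ⟨g, hg⟩ =>
    let ⟨a, e⟩ := h hg; ⟨⟨a, show f a ∈ P from e ▸ hg⟩, Subtype.ext e⟩
  have h2 := (S.mapSurjective h1).is_maximal' (hP.to_subgroup ⊤) le_top
  have := hΓ _ (S.isPGroup'.map (P.comap f).subtype)
  have := isCyclic_of_surjective _ ((S : Subgroup (P.comap f)).equivMapOfInjective _ (P.comap f).subtype_injective).symm.surjective
  refine isCyclic_of_surjective ((f.subgroupComap P).comp (S : Subgroup (P.comap f)).subtype) fun g => ?_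
  obtain ⟨a, ha, e⟩ : g ∈ (S : Subgroup (P.comap f)).map (f.subgroupComap P) := h2.le (Subgroup.mem_top g)
  exact ⟨⟨a, ha⟩, e⟩

theorem StRel.liftSt_bW [Finite K] {x : ℕ → K → G} (hx : StRel chevB2 x) (φ : K →+* K) {a b c d : ℕ} (ha : a < 8)
    (hb : b < 8) (hc : c < 8) (hd : d < 8) (t u : K) :
    hx.liftSt hx.r3_of_finite (bW (chevB2.stGen K) φ a b c d t u) = bW x φ a b c d t u := by
  have := fun r (hr : r < 8) => hx.liftSt_stGen hx.r3_of_finite ⟨r, hr⟩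
  simp [bW, this, ha, hb, hc, hd]

theorem StRel.isCyclic_suz {m : ℕ} [Suz.SuzF K m] [CharP K 2] {x : ℕ → K → G} (hx : StRel chevB2 x) {φ : K →+* K}
    (hφ : ∀ t, φ t = t ^ 2 ^ m) {ℓ : ℕ} [hl : Fact ℓ.Prime] (h2 : ℓ ≠ 2) {P : Subgroup G} (hP : IsPGroup ℓ P)
    (h : P ≤ Subgroup.closure {g | ∃ t u, g = bW x φ 5 4 6 7 t u ∨ g = bW x φ 2 3 1 0 t u}) : IsCyclic P := by
  have := Suz.SuzF.fin (F := K)
  let Γ := Subgroup.closure {g | ∃ t u, g = bW (chevB2.stGen K) φ 5 4 6 7 t u ∨ g = bW (chevB2.stGen K) φ 2 3 1 0 t u}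
  have h1 : ∀ t u, bW spX φ 5 4 6 7 t u = Suz.toGLHom K m (Suz.u (φ t) (φ t * t + u)) ∧
      bW spX φ 2 3 1 0 t u = Suz.toGLHom K m (Suz.w * Suz.u (φ t) (φ t * t + u) * Suz.w) := fun t u => by
    have h3 : ∀ t, φ t = Suz.φ t := hφ
    simp only [Units.ext_iff, Suz.toGLHom_coe, Suz.mat_mul, Suz.mat_u, Suz.mat_w, bW, Units.val_mul, val_spX, spM,
      Suz.uM, Suz.wM, mul_fin_four, fin_four_inj, h3, Suz.ff, Suz.θ_φ, Suz.θ_add, Suz.θ_mul,
      CharTwo.neg_eq, mul_zero, zero_mul, add_zero, zero_add, one_mul, mul_one, true_and, and_true, ← Suz.φ_sq u, ← Suz.φ_sq t]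
    grind
  refine isCyclic_of_le_range ((hx.liftSt hx.r3_of_finite).comp Γ.subtype) (fun R hR => ?_) hP (h.trans
    ((Subgroup.closure_le _).mpr ?_))
  · have h3 : Function.Injective ((stRel_spX.liftSt stRel_spX.r3_of_finite).comp Γ.subtype) :=
      spX_injective.comp Γ.subtype_injective
    have := isCyclic_of_le_range (Suz.toGLHom K m) (fun R hR => Suz.isCyclic_of_odd_pGroup hl.out h2 hR)
      (hR.map ((stRel_spX.liftSt stRel_spX.r3_of_finite).comp Γ.subtype)) (by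
        rintro _ ⟨⟨g, hg⟩, -, rfl⟩
        refine (Subgroup.closure_le ((Suz.toGLHom K m).range.comap (stRel_spX.liftSt stRel_spX.r3_of_finite))).mpr ?_ hg
        rintro _ ⟨t, u, rfl | rfl⟩ <;> rw [SetLike.mem_coe, Subgroup.mem_comap,
          StRel.liftSt_bW _ _ (by decide) (by decide) (by decide) (by decide)]
        exacts [⟨_, (h1 t u).1.symm⟩, ⟨_, (h1 t u).2.symm⟩])
    exact isCyclic_of_surjective _ (R.equivMapOfInjective _ h3).symm.surjective
  · rintro _ ⟨t, u, rfl | rfl⟩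
    · exact ⟨⟨_, Subgroup.subset_closure ⟨t, u, Or.inl rfl⟩⟩,
        hx.liftSt_bW φ (a := 5) (b := 4) (c := 6) (d := 7) (by decide) (by decide) (by decide) (by decide) t u⟩
    · exact ⟨⟨_, Subgroup.subset_closure ⟨t, u, Or.inr rfl⟩⟩,
        hx.liftSt_bW φ (a := 2) (b := 3) (c := 1) (d := 0) (by decide) (by decide) (by decide) (by decide) t u⟩

end Cfsg.Agent.Chev
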