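/-
The Schur multiplier of `²F₄(q)`.
-/
import Cfsg.Agent.Lib.Tw.MultF4a
import Cfsg.Agent.Lib.Tw.SuzB2

set_option autoImplicit false

namespace Cfsg.Agent

open scoped commutatorElement

section

variable {I G E : Type*} [Group G] [Group E]

theorem SBN.L_le {S : SBN I G} {a : I} {B : Subgroup G} (hX : S.X a ≤ B) {y : G} (hy : y ∈ S.Y a) (h1 : y ≠ 1)
    (h2 : y ∈ B) : S.L a ≤ B := sup_le hX fun z hz => by
  obtain ⟨x, hx, x', hx', h3⟩ := S.rank1 a y hy h1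
  have h4 := mul_mem (mul_mem (hX hx) h2) (hX hx')
  have h5 := hX (((S.n_Y a).mul (S.H_Y _ h3 a)) z hz)
  rwa [mul_inv_cancel_left, mul_mem_cancel_right (inv_mem h4), mul_mem_cancel_left h4] at h5

theorem PExt.mem_commutator {p : ℕ} {π : E →* G} (hπ : PExt p π) {A : Subgroup G} {e : E} (he : IsPElt p e)
    (h : π e ∈ ⁅A, A⁆) : e ∈ ⁅A.comap π, A.comap π⁆ := by
  rw [← Subgroup.map_comap_eq_self_of_surjective hπ.surj A, ← Subgroup.map_commutator] at h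
  obtain ⟨c, hc, h1⟩ := h
  obtain ⟨z, hz, rfl⟩ := CExt.exists_eq_mul h1
  obtain ⟨m, hm, h2⟩ := hπ.cop z hz
  obtain ⟨k, hk⟩ := he
  have h3 := pow_mem hc m
  rw [(hπ.toCExt.commute_of_ker hz e).mul_pow, h2, mul_one] at h3
  exact Subgroup.zpowers_le.mpr h3 (mem_zpowers_pow_iff.mpr
    (Nat.Coprime.coprime_dvd_right (orderOf_dvd_of_pow_eq_one hk) (hm.pow_right k)))

end

set_option synthInstance.maxSize 1024 in
theorem Chev.StRel.sub_B2 {K G : Type*} [Field K] [CharP K 2] [Group G] {x : ℕ → K → G} (hx : Chev.StRel Lie.chevF4 x) :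
    Chev.StRel Lie.chevB2 fun r t => x (Chev.byteAt 0x1e1c1b1916141311 r) t :=
  hx.sub (Chev.charOK_of K 2) (by decide +kernel)

namespace Chev.IsTw

open Cfsg.Lie RSys PreRGD

variable {K : Type*} [Field K] [CharP K 2] {φ : K →+* K} {q : ℕ} (hφ : ∀ t, φ t = t ^ q) (hφ2 : ∀ t, φ (φ t) ^ 2 = t)
  {G : Type*} [Group G] {x : ℕ → K → G} {σ : G →* G} (h : IsTw chevF4 twF4 x φ σ) [Finite K] {Γ : Type*}
  [Group Γ] {f : Γ →* G} (E : h.fold.Emb f) {E' : Type*} [Group E'] {π : E' →* Γ}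
  (hG : GS chevF4 x = ⊤) (hZ : Subgroup.center G = ⊥) (hK : 5 ≤ Nat.card K)

omit [CharP K 2] [Finite K] in
theorem s_F4 (r : Fin chevF4.nroots) : (h.fold.s (repF4 1) r : ℕ) = wordN chevF4 [1, 2, 1, 2] r := by
  have h1 : ∀ j, j ∈ h.fold.orb (repF4 1) ↔ (j : ℕ) = 1 ∨ (j : ℕ) = 2 := fun j => by
    rw [← inSub_simple (R := rs chevF4), h.inSub_F4]; revert j; decide +kernel
  rw [Fold.s, ← eq_w0J (wordW_mem_WJ _ (l := [⟨1, by decide⟩, ⟨2, by decide⟩, ⟨1, by decide⟩, ⟨2, by decide⟩])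
    fun i hi => (h1 i).mpr (by revert i; simp)) fun j hj => ?_, wordW_val]
  · rfl
  rw [rs_isPos_iff_le, wordW_val]
  rw [h1] at hj
  revert j; decide +kernel

include hφ2 in
theorem L_le_F4 {B : Subgroup Γ} (hB : ∀ g t u, f g = bW x φ 27 25 28 30 t u ∨ f g = bW x φ 20 22 19 17 t u → g ∈ B) :
    (E.sbn repF4).L 1 ≤ B := by
  obtain ⟨y, hy⟩ := E.exists_V (VL_le_V _ (h.bW_mem_VL 0 1)) (h.σ_bW_neg hφ2 0 1)
  exact SBN.L_le (fun g hg => let ⟨t, u, e⟩ := h.eq_bW hφ2 E hg; hB g t u (Or.inl e)) (y := y)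
    (show f y ∈ _ from hy ▸ h.bW_mem_VL 0 1) (fun e => h.bW_ne_one (by rw [← hy, e, map_one])) (hB y 0 1 (Or.inr hy))

include hφ hφ2 hG hZ hK in
theorem L_perfect_F4 : (E.sbn repF4).L 1 ≤ ⁅(E.sbn repF4).L 1, (E.sbn repF4).L 1⁆ := by
  set S := E.sbn repF4
  set F := h.filt levOK_F4 E
  have hn : S.n 1 ∈ S.L 1 := SBN.M_subset_L (SBN.n_mem_M 1)
  have hX : S.X 1 ≤ S.L 1 := le_sup_left
  have h1 : ∀ i < 2, ∃ g ∈ S.L 1, g ∈ F.H ∧ F.χ i g ≠ 1 := fun i hi => by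
    obtain ⟨v, v0, v1, -⟩ := (big_of_natCard hK).exists_scale
    obtain ⟨k, hk, e⟩ := h.scale_F4 hφ hφ2 E hG hZ (hi.trans (by decide)) v v0
    obtain ⟨a, ha⟩ := h.chv.rel.mem_H_iff.mp hk
    have h2 := h.chv.rel.actsBy_torus h.chv.rel.r3_of_finite a
    rw [h.filt_χ levOK_F4 E (hi.trans (by decide)) ha.symm] at e
    refine ⟨k * (S.n 1 * k⁻¹ * (S.n 1)⁻¹), ?_, mul_mem hk (S.n_H 1 _ (inv_mem hk)), fun e' => v1 ?_⟩
    · simpa only [mul_assoc] using mul_mem (show _ ∈ S.L 1 from ((S.H_X k hk 1).sup (S.H_Y k hk 1)) _ hn) (inv_mem hn)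
    · have h3 := h.chv.rel.over_conj_inv (E.over_n (repF4 1)) (s := levOK_F4.repF (hi.trans (by decide)))
        (Fin.ext (by rw [h.s_F4]; clear e e'; revert i; decide +kernel)) h2 1
      have h4 : F.χ i (k * (S.n 1 * k⁻¹ * (S.n 1)⁻¹)) = v * v := chiOf_eq
        (h.chv.x_injective (levOK_F4.repF (hi.trans (by decide)))) (by
          rw [← e, ← mul_one (_ * _ : K), mul_assoc (_ : K)]
          refine Eq.trans ?_ (h2 (levOK_F4.repF (hi.trans (by decide))) _)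
          rw [← h3, ha]
          simp only [map_mul, map_inv, mul_assoc, mul_inv_rev, inv_inv]
          rfl)
      rwa [h4, mul_self_eq_one_iff, CharTwo.neg_eq, or_self] at e'
  have h2 : ∀ i < 2, (∀ s, ∃ b ∈ S.X 1, b ∈ F.F i ∧ F.c i b = s) → ∀ g ∈ S.X 1, g ∈ F.F i →
      ∃ c ∈ ⁅S.L 1, S.L 1⁆, c⁻¹ * g ∈ S.X 1 ∧ c⁻¹ * g ∈ F.F (i + 1) := fun i hi hb g hg hg' => by
    obtain ⟨k, hk, hk', e⟩ := h1 i hi
    obtain ⟨b, h3, h4, h5⟩ := hb (F.c i g / (F.χ i k - 1))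
    have h6 : i < F.m := hi.trans (show 2 < 12 by decide)
    exact ⟨k * b * k⁻¹ * b⁻¹, Subgroup.commutator_mem_commutator hk (hX h3),
      mul_mem (inv_mem (mul_mem (S.H_X k hk' 1 b h3) (inv_mem h3))) hg,
      Filt.inv_mul_mem h6 (mul_mem (F.H_F k hk' i b h4) (inv_mem h4)) hg' (by
        rw [Filt.c_comm h6 hk' h4, h5, mul_div_cancel₀ _ (sub_ne_zero.mpr e)])⟩
  have h3 : S.X 1 ≤ ⁅S.L 1, S.L 1⁆ := fun g hg => by
    obtain ⟨c, hc, h4, h5⟩ := h2 0 (by decide) (fun s => let ⟨b, hb⟩ := h.exists_bW hφ2 E s 0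
      ⟨b, show f b ∈ _ from hb ▸ h.bW_mem_UL _ _, h.filt_bW0 E hb⟩) g hg (h.filt_F_zero levOK_F4 E ▸ UL_le_U _ _ hg)
    obtain ⟨d, hd, h6, h7⟩ := h2 1 (by decide) (fun s => let ⟨b, hb⟩ := h.exists_bW hφ2 E 0 s
      ⟨b, show f b ∈ _ from hb ▸ h.bW_mem_UL _ _, h.filt_bW1 E hb⟩) _ h4 h5
    have h8 := E.inj ((E.nd.eq_one_of_mem_UJ_UL (h.UJ_F4 ▸ (h.mem_filt_F levOK_F4 E).mp h7) h6).trans (map_one f).symm)
    rw [inv_mul_eq_one, eq_inv_mul_iff_mul_eq] at h8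
    exact h8 ▸ mul_mem hc hd
  obtain ⟨y, hy, h4⟩ := E.exists_VL_ne (repF4 1)
  exact SBN.L_le h3 hy h4 ((Subgroup.mem_normalizer_iff.mp (Subgroup.normalizer_commutator_ge_left _ _ hn) y).mpr
    (h3 (S.n_Y 1 y hy)))

include hφ hφ2 hG hZ hK E in
theorem ker_eq_bot_F4 {m : ℕ} [Suz.SuzF K m] (hq : q = 2 ^ m) (hf : f.range ≤ h.fold.gen) [Finite Γ] (hπ : PExt 2 π)
    (hs : π.ker ≤ commutator E') : π.ker = ⊥ := by
  have hU := h.isPGroup_U E 2 repF4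
  have o1 := h.orbOK_F4 (r := (rs chevF4).simple (repF4 0)) (by decide +kernel)
  have o2 : ∀ t, σ^[2] (x ((rs chevF4).simple (repF4 0) : Fin chevF4.nroots) t) =
      x ((rs chevF4).simple (repF4 0) : Fin chevF4.nroots) t ↔ ∃ s, RingHom.id K s = t :=
    fun t => ⟨fun _ => ⟨t, rfl⟩, fun _ => h.iter_F4 hφ2 _ t⟩
  have h1 := h.isSL2 E o1 o2 repF4 (a := 0) rfl
  have h2 := h1.lift hπ hU
  set S := E.sbn repF4
  set S' := S.lift hπ hU
  refine eq_bot_iff.mpr fun z hz => ?_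
  have h4 := SBN.mem_H1 (S := S') (g := z) (SBN.lift_full_eq_top _ hπ hU hs (E.sbn_full h.hrep_F4 hf) ▸
    Subgroup.mem_top z) ((SBN.mem_lift_H _ hπ hU).mpr (MonoidHom.mem_ker.mp hz ▸ one_mem _))
  obtain ⟨v, k, hk, rfl⟩ : ∃ v, ∃ k ∈ S'.T 1, z = h2.toSL2D.hHom v * k := by
    rw [SBN.H1_eq] at h4
    refine Subgroup.iSup_induction _ (C := fun z => ∃ v, ∃ k ∈ S'.T 1, z = h2.toSL2D.hHom v * k) h4
      (Fin.forall_fin_two.mpr ⟨fun g hg => ?_, fun g hg => ⟨1, g, hg, by simp⟩⟩) ⟨1, 1, one_mem _, by simp⟩ ?_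
    · obtain ⟨v, rfl⟩ := h2.T_eq ▸ hg
      exact ⟨v, 1, one_mem _, by simp⟩
    · rintro _ _ ⟨v, k, hk, rfl⟩ ⟨v', k', hk', rfl⟩
      exact ⟨v * v', k * k', mul_mem hk hk', by
        rw [map_mul, mul_assoc, ← mul_assoc k, (h2.commute_T (S'.T_le_H 1 hk) (h2.T_eq ▸ ⟨v', rfl⟩)).eq]
        simp only [mul_assoc]⟩
  have h5 : S'.L 1 ≤ ⁅(S.L 1).comap π, (S.L 1).comap π⁆ := sup_le
    (fun e he => have := (SBN.mem_lift_X _ hπ hU).mp he
      hπ.mem_commutator this.2 (h.L_perfect_F4 hφ hφ2 E hG hZ hK (Subgroup.mem_sup_left this.1)))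
    fun e he => have := (SBN.mem_lift_Y _ hπ hU).mp he
      hπ.mem_commutator this.2 (h.L_perfect_F4 hφ hφ2 E hG hZ hK (Subgroup.mem_sup_right this.1))
  have h6 := h5 (S'.T_le_L 1 hk)
  have h7 : S.L 1 ≤ (Subgroup.centralizer {x 47 1}).comap f := h.L_le_F4 hφ2 E fun g t u e => by
    rw [Subgroup.mem_comap, Subgroup.mem_centralizer_singleton_iff]
    refine (h.chv.rel.commute_of_USub h.char (S := {r | twF4.commB chevF4 r 47 = true}) (S' := {⟨47, by decide⟩})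
      (fun r hr s hs => hs ▸ hr) ?_ (x_mem_USub (x := x) (r := ⟨47, by decide⟩) (Set.mem_singleton _) 1)).eq
    rcases e with e | e <;> rw [e]
    · exact bW_mem (a := ⟨27, by decide⟩) (b := ⟨25, by decide⟩) (c := ⟨28, by decide⟩) (d := ⟨30, by decide⟩)
        (by decide +kernel) (by decide +kernel) (by decide +kernel) (by decide +kernel) t u
    · exact bW_mem (a := ⟨20, by decide⟩) (b := ⟨22, by decide⟩) (c := ⟨19, by decide⟩) (d := ⟨17, by decide⟩)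
        (by decide +kernel) (by decide +kernel) (by decide +kernel) (by decide +kernel) t u
  have h8 := h7 (x := π k) (commutator_self_le ((S.L 1).comap π) h6)
  rw [MonoidHom.mem_ker, map_mul, h1.map_lift_hHom hπ hU, mul_eq_one_iff_inv_eq] at hz
  rw [← hz, inv_mem_iff, Subgroup.mem_comap, SL2D.hHom_apply, h.map_sl2h_Y' E o1 o2,
    Subgroup.mem_centralizer_singleton_iff, ← mul_inv_eq_iff_eq_mul,
    h.chv.rel.actsBy_torus h.chv.rel.r3_of_finite _ ⟨47, by decide⟩, (h.chv.x_injective ⟨47, by decide⟩).eq_iff,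
    single_eq_cot (l := [0, 0, 0, 1]) (by decide), h.chi_dl_cot hφ,
    show exN chevF4 twF4 [0, 0, 0, 1] 2 _ = [1, 0] by decide +kernel] at h8
  obtain rfl : v = 1 := by simpa [evQ] using h8
  rw [map_one, inv_one] at hz
  rw [map_one, one_mul]
  refine CExt.eq_one_of_split (fun ℓ hl => ?_) hz.symm h6
  by_cases e : ℓ = 2
  · exact fun z hz _ => e ▸ hπ.cop z hz
  have := Fact.mk hl
  refine hπ.toCExt.split_of_pgroup fun R hR h9 => hπ.toCExt.split_of_isCyclic ?_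
  have := h.chv.rel.sub_B2.isCyclic_suz (hq ▸ hφ) e (h9.map f) (Subgroup.map_le_iff_le_comap.mpr (hR.trans
    (h.L_le_F4 hφ2 E fun g t u e => Subgroup.subset_closure ⟨t, u, e⟩)))
  exact isCyclic_of_surjective _ (R.equivMapOfInjective _ E.inj).symm.surjective

end Chev.IsTw

open Cfsg.Lie in
theorem Chev.hasMult_twistedF4 {K : Type*} [Field K] [Fintype K] {m : ℕ} (hm : 1 ≤ m)
    (hK : Fintype.card K = 2 ^ (2 * m + 1)) : HasCyclicSchurMultiplier (twistedF4 K (2 ^ m)) 1 := by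
  obtain ⟨_, φ, hφ, hφ2⟩ := exists_frob_F4 hK
  have := Suz.SuzF.of_card hm hK
  have hK' : 5 ≤ Nat.card K := le_trans (by decide) Suz.eight_le_card
  have E := emb_twistedF4 φ hφ hφ2
  have hf := (range_twistedF4 φ hφ hφ2).le
  have := IsTw.finite_of_emb _ (GS_xG chevF4 K) E
  refine hasSchurMultiplier_one_of fun Γ _ _ τ hτ => ?_
  have hπ : CExt τ := ⟨hτ.1, hτ.2.1⟩
  exact IsTw.ker_eq_bot_F4 hφ hφ2 _ E (GS_xG chevF4 K) ChevM.center_eq_bot hK' rfl hf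
    (IsTw.pExt_of _ levOK_F4 E hπ (IsTw.hrep_F4 _) hf 2 hτ.2.2
      (IsTw.split_F4 hφ hφ2 _ E hπ (GS_xG chevF4 K) ChevM.center_eq_bot hK' 2)) hτ.2.2

end Cfsg.Agent
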