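import Mathlib
import Cfsg.Agent.Lib.Tw.Invol2
import Cfsg.Agent.Lib.Tw.MultF4

/-! Classes of involutions in the twisted groups of types `D₄`, `E₆`, `F₄` in characteristic two. -/

set_option autoImplicit false
set_option linter.unusedSectionVars false

namespace Cfsg.Agent.Chev
open Cfsg.Lie RSys PreRGD ChevM
open scoped commutatorElement

variable {K : Type*} [Field K] [Fintype K] [CharP K 2]

theorem isPrimePow_of_card {q k : ℕ} (hk : k ≠ 0) (hK : Fintype.card K = q ^ k) : IsPrimePow q :=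
  (isPrimePow_pow_iff hk).mp (hK ▸ FiniteField.isPrimePow_card K)

theorem ncard_of_classes {Γ G : Type*} [Group Γ] [Group G] {f : Γ →* G} {R : List G}
    (h : ∃ Rs : List Γ, Rs.map f = R ∧ (∀ z ∈ Rs, orderOf z = 2) ∧ (∀ z, orderOf z = 2 → ∃ y ∈ Rs, IsConj z y) ∧
      Rs.Pairwise fun y z => ¬ IsConj y z) : (ConjClasses.mk '' {g : Γ | orderOf g = 2}).ncard = R.length := by
  obtain ⟨Rs, rfl, h1, h2, h3⟩ := h
  rw [ncard_classes h1 h2 h3, List.length_map]

theorem invol_twistedD4 {q : ℕ} (hK : Fintype.card K = q ^ 3) :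
    (ConjClasses.mk '' {g : twistedD4 K q | orderOf g = 2}).ncard = 2 := by
  obtain ⟨-, -, -, -, φ, hφ, hφk⟩ := exists_frob (isPrimePow_of_card three_ne_zero hK) hK
  have h := isTw_adj (twOK_D4a K) φ
  have E : h.fold.Emb _ := emb_twistedD4 φ hφ hφk
  have hfix := fun g (e : (twOK_D4a K).aut (fm chevD4 φ g) = g) =>
    mem_range_wordIncl.mpr ((mem_twistedD4_iff φ hφ hφk).mpr e)
  have b := fun L => h.rel_base E hfix keyOK_D4 (oc_S _ K) (L := L)
  have b1 := b [23] (by decide +kernel)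
  have b2 := b [17, 20, 21] (by decide +kernel)
  have b3 := h.rel_trans E (h.rel_word E hfix (collFor_D4 2 id) (charOK_of K 2) (collFor_D4 2 id) (charOK_of K 2)
    [12, 13, 18, 14] [15, 16, 19] (b [15, 16, 19, 22] (by decide +kernel)) (by decide +kernel) (by decide +kernel))
    (b _ (by decide +kernel)) (h.rel_move E keyOK_D4 [0, 2, 3] b2 (by decide +kernel))
  exact ncard_of_classes (h.classes E keyOK_D4 (ot_G _ K) (Ls := [[23], [17, 20, 21], [15, 16, 19, 22]])
    (tab := [(0, [15, 16, 19, 22], []), (13, [23], []), (2, [17, 20, 21], []), (15, [], [])]) (by decide +kernel)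
    (R := [([23], [23]), ([17, 20, 21], [17, 20, 21, 22, 23])]) (by decide +kernel) (by simp [b1, b2, b3])
    (by simp [b1.1, b2.1]))

theorem exists_frob_add_one {q : ℕ} (hK : Fintype.card K = q ^ 2) {φ : K →+* K} (hφ : ∀ t, φ t = t ^ q)
    (hφk : ∀ t, φ^[2] t = t) : ∃ t, φ t = t + 1 := by
  have hq := (isPrimePow_of_card two_ne_zero hK).one_lt
  obtain ⟨s, hs⟩ : ∃ s : K, s ^ q ≠ s := by
    by_contra! h
    have := Nat.le_of_dvd (by omega) ((FiniteField.forall_pow_eq_one_iff K (q - 1)).mp fun x => by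
      rw [← mul_left_inj x, ← pow_succ, Nat.sub_add_cancel hq.le, one_mul]; exact Units.ext (by simpa using h x))
    have : q < q ^ 2 := by nlinarith
    omega
  have h1 : s + φ s ≠ 0 := fun e => hs (by rw [← hφ]; exact (CharTwo.add_eq_zero.mp e).symm)
  have h2 : φ (φ s) = s := hφk s
  refine ⟨s / (s + φ s), ?_⟩
  rw [map_div₀, map_add, h2, add_comm (φ s), div_add_one h1, ← add_assoc, CharTwo.add_self_eq_zero, zero_add]

theorem invol_twistedE6 {q : ℕ} (hK : Fintype.card K = q ^ 2) :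
    (ConjClasses.mk '' {g : twistedE6 K q | orderOf g = 2}).ncard = 3 := by
  obtain ⟨-, -, -, -, φ, hφ, hφk⟩ := exists_frob (isPrimePow_of_card two_ne_zero hK) hK
  obtain ⟨t, ht⟩ := exists_frob_add_one hK hφ hφk
  have h := isTw_adj (twOK_E6 K) φ
  have E : h.fold.Emb _ := emb_twistedE6 φ hφ hφk
  have hfix := fun g (e : (twOK_E6 K).aut (fm chevE6 φ g) = g) =>
    mem_range_wordIncl.mpr ((mem_twistedE6_iff φ hφ hφk).mpr e)
  have b := fun L => h.rel_base E hfix keyOK_E6 (oc_S _ K) (L := L)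
  have w := fun L a g b => h.rel_word E hfix (collFor_E6 2 id) (charOK_of K 2) (collFor_E6 2 id) (charOK_of K 2)
    (L := L) (a := a) g b
  have st : ∀ (L a b : List ℕ) (r s : ℕ) (l : List ℤ), h.Rel E L (prN chevE6 K a) → (decide (r < 72) &&
      decide (s < 72) && decide (twE6.π r = s) && decide (twE6.π s = r) && twE6.commB chevE6 r s &&
      (collE6 2 (ordOf chevE6 certE6 l)).check ([(r, [(1, [0])]), (s, [(1, [0]), (1, [])])] ++ oneW a)
        (oneW b ++ [(r, [(1, [0])]), (s, [(1, [0]), (1, [])])])) = true → h.Rel E L (prN chevE6 K b) :=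
    fun L a b r s l ha hc => by
      simp only [Bool.and_eq_true, decide_eq_true_eq] at hc
      obtain ⟨⟨⟨⟨⟨a1, a2⟩, a3⟩, a4⟩, a5⟩, a6⟩ := hc
      refine h.rel_step E ha (g := xG _ K r t * xG _ K s (t + 1)) (hfix _ ?_) ?_
      · refine (map_mul _ _ _).trans ((congrArg₂ _ (h.σ_char2 ⟨r, a1⟩ t) (h.σ_char2 ⟨s, a2⟩ _)).trans ?_)
        rw [a3, a4, h.tw.e_of_zero rfl, h.tw.e_of_zero rfl, pow_one, pow_one, map_add, map_one, ht, add_assoc,
          CharTwo.add_self_eq_zero, add_zero]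
        exact (h.chv.rel.commute_of_commB (charOK_zero K) a1 a2 a5 _ _).symm
      · simpa [evS_oneW, prN, mul_assoc] using
          evS_eq_of_check h.chv.rel (collFor_E6 _ _) (charOK_of K 2) (fun _ => t) a6
  have mv := fun L L' v y => h.rel_move E keyOK_E6 (L := L) (L' := L') v (y := y)
  have b1 := b [71] (by decide +kernel)
  have b2 := b [68, 66] (by decide +kernel)
  have b3 := b [55, 65, 67] (by decide +kernel)
  have b4 := st _ _ [68, 66] 34 29 [1, 0, -1, 1, -1, 1] (w _ _ [37, 42] [65, 66, 68] (b [65, 69] (by decide +kernel))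
    (by decide +kernel) (by decide +kernel)) (by decide +kernel)
  have b5 := h.rel_trans E (st _ _ [54, 64, 69] 35 15 [-2, 0, 1, 1, 1, -2] (w _ _ [36, 56] [53, 69, 54, 64]
    (b [53, 65, 69] (by decide +kernel)) (by decide +kernel) (by decide +kernel)) (by decide +kernel))
    (b _ (by decide +kernel)) (mv _ _ [2, 4] _ b3 (by decide +kernel))
  have b6 := h.rel_trans E (w _ _ [63, 39, 36, 56] [52, 53, 62] (b [52, 62, 53, 65] (by decide +kernel))
    (by decide +kernel) (by decide +kernel)) (b _ (by decide +kernel))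
    (mv _ _ [0, 5, 3, 2, 4, 3] _ b3 (by decide +kernel))
  have b7 := h.rel_trans E (st _ _ [52, 62, 47, 70] 35 15 [-1, 1, 0, 1, 0, -1] (w _ _ [36, 56] [47, 51, 70, 52, 62]
    (b [47, 51, 63, 70] (by decide +kernel)) (by decide +kernel) (by decide +kernel)) (by decide +kernel))
    (b _ (by decide +kernel)) (mv _ _ [2, 4, 3, 2, 4] _ b6 (by decide +kernel))
  exact ncard_of_classes (h.classes E keyOK_E6 (ot_S K keyOK_E6) (Ls := [[71], [68, 66], [55, 65, 67], [65, 69],
      [53, 65, 69], [52, 62, 53, 65], [47, 51, 63, 70]])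
    (tab := [(0, [47, 51, 63, 70], []), (33, [52, 62, 53, 65], [2, 4, 3, 2, 4]), (2, [53, 65, 69], []),
      (20, [52, 62, 53, 65], [0, 5, 3, 2, 4]), (8, [53, 65, 69], [1, 3]), (35, [55, 65, 67], [2, 4]),
      (53, [52, 62, 53, 65], [3, 2, 4]), (41, [55, 65, 67], [1, 3, 2, 4]), (22, [55, 65, 67], [0, 5]),
      (10, [53, 65, 69], [3]), (28, [65, 69], [1, 3]), (55, [55, 65, 67], []), (43, [55, 65, 67], [3, 2, 4]),
      (61, [71], []), (30, [68, 66], []), (63, [], [])]) (by decide +kernel)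
    (R := [([71], [71]), ([68, 66], [66, 68, 69, 70, 71]), ([55, 65, 67], [55, 65, 66, 67, 68, 69, 70, 71])])
    (by decide +kernel) (by simp [b1, b2, b3, b4, b5, b6, b7]) (by simp [b1.1, b2.1, b3.1]))

section F4
variable {φ : K →+* K} {σ : chevF4.group K →* chevF4.group K} (h : IsTw chevF4 twF4 (xG chevF4 K) φ σ)
  {Γ : Type*} [Group Γ] {f : Γ →* chevF4.group K} (E : h.fold.Emb f) (hfix : ∀ g, σ g = g → g ∈ f.range)
include E hfix

theorem IsTw.rel_F4 : h.Rel E [32, 37] (prN _ K [39, 45]) ∧ h.Rel E [32, 37] (prN _ K [32, 37]) ∧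
    h.Rel E [25, 30] (prN _ K [47, 44]) ∧ h.Rel E [32, 37, 38, 43] (prN _ K [39, 45]) := by
  have b := fun L => h.rel_base E hfix keyOK_F4 (oc_of_check keyOK_F4 (ot_G _ K) (by decide +kernel)) (L := L)
  have b1 := h.rel_move E keyOK_F4 (L' := [32, 37]) [0, 3, 1, 2, 1, 2] (b [39, 45] (by decide +kernel))
    (by decide +kernel)
  have b2 := b [32, 37] (by decide +kernel)
  refine ⟨b1, b2, ?_, h.rel_trans E (h.rel_word E hfix (collFor_F4 2 id) (charOK_of K 2) (collFor_F4 2 id)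
    (charOK_of K 2) [24, 33, 35, 31, 40, 27, 25, 28] [32, 37] (b [32, 37, 38, 43] (by decide +kernel))
    (by decide +kernel) (by decide +kernel)) b2 b1⟩
  have hv := h.wfB_mem (v := [1, 2, 1, 2, 0, 3, 1, 2, 1, 2, 0, 3]) (by decide +kernel)
  have h1 := (reps_sound keyOK_F4 (ot_G _ K) (R := [([47, 44], [44, 47])]) (by decide +kernel)).1 [47, 44] (by simp)
  have h2 := E.invW_conj hv (E.invW_rank1 hv (i := repF4 1) (y := prN _ K [47, 44])
    (hfix _ (h.fix_prN (collFor_F4 2 id) (charOK_of K 2) (by decide +kernel)))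
    (fun e => by simp [e] at h1) (by rw [← sq, ← h1, pow_orderOf_eq_one]) (by
      rw [← pr_fl (by decide)]
      refine pr_mem_US fun r => ?_
      rw [Set.mem_ofPred_eq, h.inSub_F4, rs_isPos_iff_le, wordW_val, mem_fl]
      revert r; decide +kernel))
  rwa [show ∀ v s : Equiv.Perm (Fin chevF4.nroots), v * (v⁻¹ * s * v) * v⁻¹ = s from fun _ _ => by group,
    show h.fold.s (repF4 1) = reflL chevF4 [25, 30] from Equiv.ext fun r => Fin.ext (by
      rw [h.s_F4, reflL_val keyOK_F4 (by decide)]; revert r; decide +kernel)] at h2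

theorem IsTw.classes_F4 : ∃ Rs : List Γ, Rs.map f = [prN _ K [47, 44], prN _ K [39, 45]] ∧ (∀ z ∈ Rs, orderOf z = 2) ∧
    (∀ z, orderOf z = 2 → ∃ y ∈ Rs, IsConj z y) ∧ Rs.Pairwise fun y z => ¬ IsConj y z := by
  obtain ⟨b1, -, b2, b3⟩ := h.rel_F4 E hfix
  exact h.classes E keyOK_F4 (ot_G _ K) (Ls := [[32, 37], [25, 30], [32, 37, 38, 43]])
    (tab := [(0, [32, 37, 38, 43], []), (9, [32, 37], [1, 2, 1, 2, 0, 3]), (6, [25, 30], [0, 3, 1, 2, 1, 2, 0, 3]),
      (15, [], [])]) (by decide +kernel) (R := [([47, 44], [44, 47]), ([39, 45], [39, 40, 44, 45, 46, 47])])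
    (by decide +kernel) (by simp [b1, b2, b3]) (by simpa using ⟨b2.1, b1.1⟩)

theorem IsTw.mem_commutator_word (a b : List ℕ) {L : List ℕ} {y : Γ} (e : f y = prN _ K L)
    (hc : (allL [a, b] (fun g => allL g (Nat.blt · chevF4.nroots) &&
      (collF4 2 id).check (oneW (g.map twF4.π)) (oneW g)) &&
      (collF4 2 id).check (commW (oneW a) (oneW b)) (oneW L)) = true) : y ∈ commutator Γ := by
  rw [Bool.and_eq_true, allL_iff] at hc
  obtain ⟨a', ha⟩ := hfix _ (h.fix_prN (collFor_F4 2 id) (charOK_of K 2) (hc.1 a (by simp)))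
  obtain ⟨b', hb⟩ := hfix _ (h.fix_prN (collFor_F4 2 id) (charOK_of K 2) (hc.1 b (by simp)))
  have := h.chv.rel.comm_of_check (collFor_F4 2 id) (charOK_of K 2) 0 hc.2
  simp only [evS_oneW] at this
  rw [E.inj (a₁ := y) (a₂ := ⁅a'⁻¹, b'⁻¹⁆) (by
    rw [commutatorElement_def, inv_inv, inv_inv, map_mul, map_mul, map_mul, map_inv, map_inv, ha, hb, e]
    exact this.symm)]
  exact Subgroup.commutator_mem_commutator (Subgroup.mem_top _) (Subgroup.mem_top _)

theorem IsTw.mem_commutator_F4 {z : Γ} (hz : z * z = 1) : z ∈ commutator Γ := by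
  by_cases h1 : z = 1
  · exact h1 ▸ one_mem _
  obtain ⟨Rs, e, -, h2, -⟩ := h.classes_F4 E hfix
  obtain ⟨y, hy, h3⟩ := h2 z (orderOf_eq_prime (by rwa [sq]) h1)
  obtain ⟨g, rfl⟩ := isConj_iff.mp h3.symm
  refine Subgroup.Normal.conj_mem inferInstance _ ?_ g
  have := e ▸ List.mem_map_of_mem (f := f) hy
  simp only [List.mem_cons, List.not_mem_nil, or_false] at this
  rcases this with e | e
  · exact h.mem_commutator_word E hfix [34, 26, 36] [39, 45] e (by decide +kernel)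
  · exact h.mem_commutator_word E hfix [35, 31, 40] [29, 41, 44] e (by decide +kernel)

end F4

theorem Fold.Emb.eq_top_of_UL {ι I : Type*} [Fintype I] [DecidableEq I] {R : RSys ι I} {G : Type*} [Group G]
    {P : PreRGD R G} {F : Fold P} [Fintype ι] [DecidableEq ι] {Γ : Type*} [Group Γ] {f : Γ →* G} (E : F.Emb f)
    (hf : f.range ≤ F.gen) {A : Type*} {rep : A → I} (hrep : ∀ i, ∃ a, i ∈ F.orb (rep a)) {N : Subgroup Γ}
    [hN : N.Normal] (h : ∀ a g, f g ∈ P.UL (F.orb (rep a)) → g ∈ N) : N = ⊤ := by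
  have h1 := Fold.gen_le_of E.nd hrep (B := N.map f) (fun a g hg e => by
    obtain ⟨g, rfl⟩ := E.exists_U (P.UL_le_U _ hg) e
    exact ⟨g, h a g hg, rfl⟩) fun a => by
      obtain ⟨y, hy, h1⟩ := E.exists_VL_ne (rep a)
      refine ⟨f y, ⟨y, ?_, rfl⟩, hy, E.fix y, fun e => h1 (E.inj (e.trans (map_one f).symm))⟩
      have := hN.conj_mem _ (h a (E.n (rep a) * y * (E.n (rep a))⁻¹) (by
        rw [map_mul, map_mul, map_inv]; exact (E.over_n _).w0J_conj_VL hy)) (E.n (rep a))⁻¹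
      simpa [mul_assoc] using this
  refine (Subgroup.eq_top_iff' N).mpr fun g => ?_
  obtain ⟨g', hg, e⟩ := h1 (hf ⟨g, rfl⟩)
  exact E.inj e ▸ hg

theorem ncard_commutator {Γ : Type*} [Group Γ] {Rs : List Γ} (h1 : ∀ z ∈ Rs, orderOf z = 2)
    (h2 : ∀ z, orderOf z = 2 → ∃ y ∈ Rs, IsConj z y) (h3 : Rs.Pairwise fun y z => ¬ IsConj y z)
    (h4 : ∀ y ∈ Rs, y ∈ commutator Γ ∧ ∀ g, ∃ t ∈ commutator Γ, ∃ c, Commute c y ∧ g = t * c) :
    (ConjClasses.mk '' {g : commutator Γ | orderOf g = 2}).ncard = Rs.length := by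
  have h : (Rs.attach.map fun y => (⟨y.1, (h4 y.1 y.2).1⟩ : commutator Γ)).map (commutator Γ).subtype = Rs := by
    simp [Function.comp_def]
  rw [← h, List.length_map]
  generalize (Rs.attach.map fun y => (⟨y.1, (h4 y.1 y.2).1⟩ : commutator Γ)) = Rs' at h
  subst h
  refine ncard_classes (fun z hz => ?_) (fun z hz => ?_) ?_
  · rw [← Subgroup.orderOf_coe]; exact h1 _ (List.mem_map_of_mem hz)
  · obtain ⟨_, hy, e⟩ := h2 z (by rwa [Subgroup.orderOf_coe])
    obtain ⟨y, hy', rfl⟩ := List.mem_map.mp hy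
    obtain ⟨g, e⟩ := isConj_iff.mp e.symm
    obtain ⟨t, ht, c, hc, rfl⟩ := (h4 _ hy).2 g
    refine ⟨y, hy', (isConj_iff.mpr ⟨⟨t, ht⟩, Subtype.ext ?_⟩).symm⟩
    rw [← e, mul_assoc t c, hc.eq]
    simp [mul_assoc]
  · rw [List.pairwise_map] at h3
    exact h3.imp fun h e => h ((commutator Γ).subtype.map_isConj e)

theorem IsTw.invol_tits {σ : chevF4.group (ZMod 2) →* chevF4.group (ZMod 2)}
    (h : IsTw chevF4 twF4 (xG chevF4 (ZMod 2)) (RingHom.id _) σ) {Γ : Type*} [Group Γ]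
    {f : Γ →* chevF4.group (ZMod 2)} (E : h.fold.Emb f) (hfix : ∀ g, σ g = g → g ∈ f.range)
    (hr : f.range ≤ h.fold.gen) : (ConjClasses.mk '' {g : commutator Γ | orderOf g = 2}).ncard = 2 := by
  have hφ2 : ∀ t : ZMod 2, RingHom.id _ (RingHom.id _ t) ^ 2 = t := by decide
  have h0 := fun g => h.mem_commutator_F4 E hfix (z := g)
  have ck := fun a b (hc : (collF4 2 id).check (oneW a) (oneW b) = true) => show prN _ _ a = prN _ _ b by
    simpa only [evS_oneW, prN] using evS_eq_of_check h.chv.rel (collFor_F4 2 id) (charOK_of _ 2) 0 hc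
  obtain ⟨c, hc⟩ := hfix _ (h.fix_prN (collFor_F4 2 id) (charOK_of _ 2) (L := [27, 25, 28]) (by decide +kernel))
  have h1 : commutator _ ⊔ Subgroup.zpowers c = ⊤ := by
   refine E.eq_top_of_UL hr h.hrep_F4 (hN := .of_commutator_le _ le_sup_left) (Fin.forall_fin_two.mpr
    ⟨fun g hg => Subgroup.mem_sup_left (h0 g (E.inj ?_)), fun g hg => ?_⟩)
   · have o1 := h.orbOK_F4 (r := (rs chevF4).simple (repF4 0)) (by decide +kernel)
     obtain ⟨b, hb, -, e⟩ := o1.exists_dl E.nd (o1.UL_eq ▸ hg) (E.fix g)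
     obtain ⟨t, rfl⟩ := h.chv.rel.mem_XS_iff.mp hb
     rw [map_mul, e, dl_two, IsTw.fold_σ, h.σ_char2, map_one, Commute.mul_mul_mul_comm, xG_mul_self, xG_mul_self, mul_one]
     exact h.chv.rel.commute_of_commB h.char (by decide +kernel) (by decide +kernel) (by decide +kernel) _ _
   · obtain ⟨t, u, e⟩ := h.eq_bW hφ2 E hg
     have b0 : ∀ g, f g = prN _ _ [] ∨ f g = prN _ _ [28, 30] → g ∈ commutator _ ⊔ Subgroup.zpowers c := fun g e =>
       Subgroup.mem_sup_left (h0 g (E.inj (by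
         rw [map_mul, map_one]
         rcases e with e | e <;> rw [e, ← prN_append]
         exacts [rfl, ck _ [] (by decide +kernel)])))
     have b1 : c ∈ commutator _ ⊔ Subgroup.zpowers c := Subgroup.mem_sup_right (Subgroup.mem_zpowers c)
     have b2 : ∀ t : ZMod 2, t = 0 ∨ t = 1 := by decide
     rcases b2 t with rfl | rfl
     · refine b0 g ?_
       rcases b2 u with rfl | rfl <;> simp [e, bW, prN, xG_zero]
     · rw [← mul_mem_cancel_left (inv_mem b1)]
       refine b0 _ ?_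
       rw [map_mul, map_inv, hc, e]
       rcases b2 u with rfl | rfl <;> simp [bW, prN, mul_assoc, ← xG_add, xG_zero]
  have h2 : ∀ y, Commute (f c) (f y) → ∀ g, ∃ t ∈ commutator _, ∃ c, Commute c y ∧ g = t * c := fun y hy g => by
    obtain ⟨t, ht, _, ⟨k, rfl⟩, e⟩ := Subgroup.mem_sup_of_normal_left.mp (h1 ▸ Subgroup.mem_top g)
    exact ⟨t, ht, _, (show Commute c y from E.inj (by simpa using hy.eq)).zpow_left k, e.symm⟩
  obtain ⟨Rs, e, a1, a2, a3⟩ := h.classes_F4 E hfix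
  refine (ncard_commutator a1 a2 a3 fun y hy => ⟨h0 y (by rw [← sq, ← a1 y hy, pow_orderOf_eq_one]), ?_⟩).trans
    (by simpa using congrArg List.length e)
  have := e ▸ List.mem_map_of_mem (f := f) hy
  simp only [List.mem_cons, List.not_mem_nil, or_false] at this
  rcases this with e | e
  · exact h2 y (by rw [Commute, SemiconjBy, hc, e, ← prN_append, ← prN_append]; exact ck _ _ (by decide +kernel))
  · obtain ⟨b1, b2, -⟩ := h.rel_F4 E hfix
    obtain ⟨_, ⟨k, rfl⟩, e'⟩ := b2.exists_conj h.odd_H b1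
    obtain ⟨y', hy'⟩ := b2.1
    obtain rfl : y = k * y' * k⁻¹ := E.inj (by rw [e, ← e', ← hy']; simp)
    intro g
    obtain ⟨t, ht, d, hd, rfl⟩ := h2 y' (by
      rw [Commute, SemiconjBy, hc, hy', ← prN_append, ← prN_append]; exact ck _ _ (by decide +kernel)) g
    exact ⟨t * ⁅d, k⁆, mul_mem ht (Subgroup.commutator_mem_commutator (Subgroup.mem_top _) (Subgroup.mem_top _)),
      k * d * k⁻¹, hd.conj k, by simp [commutatorElement_def, mul_assoc]⟩


omit [CharP K 2] in
theorem invol_twistedF4 {m : ℕ} (hK : Fintype.card K = 2 ^ (2 * m + 1)) :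
    (ConjClasses.mk '' {g : twistedF4 K (2 ^ m) | orderOf g = 2}).ncard = 2 := by
  obtain ⟨_, φ, hφ, hφ2⟩ := exists_frob_F4 hK
  exact ncard_of_classes ((isTw_adj (twOK_F4 K) φ).classes_F4 (emb_twistedF4 φ hφ hφ2) fun g e =>
    mem_range_wordIncl.mpr ((mem_twistedF4_iff φ hφ hφ2).mpr e))

theorem invol_tits : (∀ g : twistedF4 (ZMod 2) 1, g * g = 1 → g ∈ commutator _) ∧
    (ConjClasses.mk '' {g : TitsGroup | orderOf g = 2}).ncard = 2 := by
  have hφ : ∀ t : ZMod 2, RingHom.id _ t = t ^ 1 := by simp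
  have hφ2 : ∀ t : ZMod 2, RingHom.id _ (RingHom.id _ t) ^ 2 = t := by decide
  have hfix := fun g (e : (twOK_F4 (ZMod 2)).aut (fm chevF4 (RingHom.id _) g) = g) =>
    mem_range_wordIncl.mpr ((mem_twistedF4_iff _ hφ hφ2).mpr e)
  exact ⟨fun g => (isTw_adj (twOK_F4 _) _).mem_commutator_F4 (emb_twistedF4 _ hφ hφ2) hfix,
    (isTw_adj (twOK_F4 _) _).invol_tits (emb_twistedF4 _ hφ hφ2) hfix (range_twistedF4 _ hφ hφ2).le⟩

end Cfsg.Agent.Chev
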